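import Cfsg.Agent.Lib.BlockThree.Twist

/-!
# The Clifford correspondence as a count
-/

set_option autoImplicit false
set_option linter.style.haveILetI false
set_option linter.unusedSectionVars false

namespace Cfsg.Agent.BlockThree

open Cfsg Cfsg.Agent Cfsg.Agent.Char Cfsg.Agent.Blocks

universe u

variable {X : Type u} [Group X] [Fintype X] {C : Subgroup X} [C.Normal] [Fintype C]

theorem le_inertia_irr (φ : IrrCharacter C) : C ≤ inertia C (φ : C → ℂ) :=
  le_inertia C (IsCharacter.isClassFunction (irr_isCharacter φ))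

/-- The character viewed inside its inertia group. -/
noncomputable def inInertia (φ : IrrCharacter C) :
    IrrCharacter (C.subgroupOf (inertia C (φ : C → ℂ))) :=
  ⟨fun m => (φ : C → ℂ) (Subgroup.subgroupOfEquivOfLe (le_inertia_irr φ) m),
    IsIrrCharacter.comp φ.2 (Subgroup.subgroupOfEquivOfLe (le_inertia_irr φ)).toMonoidHom
      (Subgroup.subgroupOfEquivOfLe (le_inertia_irr φ)).surjective⟩

theorem inInertia_invariant (φ : IrrCharacter C) (t : inertia C (φ : C → ℂ)) :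
    conjChar (C.subgroupOf (inertia C (φ : C → ℂ))) t
      (inInertia φ : C.subgroupOf (inertia C (φ : C → ℂ)) → ℂ) = inInertia φ :=
  funext fun m => congrFun (mem_inertia C |>.1 t.2)
    (Subgroup.subgroupOfEquivOfLe (le_inertia_irr φ) m)

theorem classInner_inInertia (φ : IrrCharacter C) [Fintype (C.subgroupOf (inertia C (φ : C → ℂ)))]
    (ψ : inertia C (φ : C → ℂ) → ℂ) :
    classInner (fun m : C.subgroupOf (inertia C (φ : C → ℂ)) => ψ m)
        (inInertia φ : C.subgroupOf (inertia C (φ : C → ℂ)) → ℂ) =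
      classInner (fun h : C => ψ ⟨(h : X), le_inertia_irr φ h.2⟩) (φ : C → ℂ) := by
  unfold classInner
  rw [Nat.card_congr (Subgroup.subgroupOfEquivOfLe (le_inertia_irr φ)).toEquiv]
  congr 1
  exact Fintype.sum_equiv (Subgroup.subgroupOfEquivOfLe (le_inertia_irr φ)).toEquiv _ _ fun m => rfl

theorem charDegree_inInertia (φ : IrrCharacter C) :
    charDegree (inInertia φ : C.subgroupOf (inertia C (φ : C → ℂ)) → ℂ) =
      charDegree (φ : C → ℂ) := by
  simp [charDegree, inInertia]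

variable (φ : IrrCharacter C)

theorem card_over_inertia [Fintype (inertia C (φ : C → ℂ))]
    [Fintype (C.subgroupOf (inertia C (φ : C → ℂ)))] :
    Nat.card (OverTh (C.subgroupOf (inertia C (φ : C → ℂ)))
      (inInertia φ : C.subgroupOf (inertia C (φ : C → ℂ)) → ℂ)) =
        Nat.card (OverTh C (φ : C → ℂ)) ∧
    ∀ ψ ∈ OverTh (C.subgroupOf (inertia C (φ : C → ℂ)))
      (inInertia φ : C.subgroupOf (inertia C (φ : C → ℂ)) → ℂ),
      ∃ χ ∈ OverTh C (φ : C → ℂ), charDegree (χ : X → ℂ) =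
        (inertia C (φ : C → ℂ)).index * charDegree (ψ : inertia C (φ : C → ℂ) → ℂ) := by
  classical
  have hCT := le_inertia_irr φ
  have hover : ∀ ψ : IrrCharacter (inertia C (φ : C → ℂ)),
      ψ ∈ OverTh (C.subgroupOf (inertia C (φ : C → ℂ))) (inInertia φ : C.subgroupOf (inertia C (φ : C → ℂ)) → ℂ) ↔
        classInner (fun h : C => (ψ : (inertia C (φ : C → ℂ)) → ℂ) ⟨(h : X), hCT h.2⟩) (φ : C → ℂ) ≠ 0 := fun ψ => by
    rw [mem_overTh, classInner_inInertia φ (ψ : (inertia C (φ : C → ℂ)) → ℂ)]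
  let F : OverTh (C.subgroupOf (inertia C (φ : C → ℂ))) (inInertia φ : C.subgroupOf (inertia C (φ : C → ℂ)) → ℂ) → OverTh C (φ : C → ℂ) :=
    fun ψ => ⟨⟨indFun (inertia C (φ : C → ℂ)) (ψ.1 : (inertia C (φ : C → ℂ)) → ℂ),
      (clifford_correspondence C (T := inertia C (φ : C → ℂ)) φ.2 rfl hCT ψ.1.2 ((hover ψ.1).1 ψ.2)).1⟩, by
        rw [mem_overTh]
        show classInner (fun h : C => indFun (inertia C (φ : C → ℂ)) (ψ.1 : (inertia C (φ : C → ℂ)) → ℂ) h) (φ : C → ℂ) ≠ 0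
        rw [(clifford_correspondence C (T := inertia C (φ : C → ℂ)) φ.2 rfl hCT ψ.1.2 ((hover ψ.1).1 ψ.2)).2]
        exact (hover ψ.1).1 ψ.2⟩
  refine ⟨Nat.card_eq_of_bijective F ⟨fun ψ ψ' h => ?_, fun χ => ?_⟩, fun ψ hψ => ?_⟩
  · exact Subtype.ext (Subtype.ext (clifford_correspondence_injective C (T := inertia C (φ : C → ℂ)) φ.2 rfl hCT ψ.1.2
      ψ'.1.2 ((hover ψ.1).1 ψ.2) ((hover ψ'.1).1 ψ'.2)
      (congrArg (fun t : OverTh C (φ : C → ℂ) => ((t : IrrCharacter X) : X → ℂ)) h)))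
  · obtain ⟨ψ, hψ, hind, hc⟩ := clifford_correspondence_surjective C (T := inertia C (φ : C → ℂ)) φ.2 rfl hCT χ.1.2 χ.2
    exact ⟨⟨⟨ψ, hψ⟩, (hover ⟨ψ, hψ⟩).2 (by
      show classInner (fun h : C => ψ ⟨(h : X), hCT h.2⟩) (φ : C → ℂ) ≠ 0
      rw [hc]; exact χ.2)⟩, Subtype.ext (Subtype.ext hind)⟩
  · refine ⟨(F ⟨ψ, hψ⟩).1, (F ⟨ψ, hψ⟩).2, ?_⟩
    have h : indFun (inertia C (φ : C → ℂ)) (ψ : (inertia C (φ : C → ℂ)) → ℂ) 1 = ((inertia C (φ : C → ℂ)).index : ℂ) * (ψ : (inertia C (φ : C → ℂ)) → ℂ) 1 := indFun_one_apply (inertia C (φ : C → ℂ)) _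
    rw [irr_one_eq_charDegree ψ] at h
    have h2 := irr_one_eq_charDegree (F ⟨ψ, hψ⟩).1
    rw [show ((F ⟨ψ, hψ⟩).1 : X → ℂ) 1 = indFun (inertia C (φ : C → ℂ)) (ψ : (inertia C (φ : C → ℂ)) → ℂ) 1 from rfl, h] at h2
    exact_mod_cast h2.symm

end Cfsg.Agent.BlockThree
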