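import Cfsg.Agent.Lib.BlockThree.Inertia
import Cfsg.Agent.Lib.Blocks.FongSolvable

/-!
# Characters of a block over the root block of a normal abelian defect group
-/

set_option autoImplicit false
set_option linter.style.haveILetI false
set_option linter.unusedSectionVars false

namespace Cfsg.Agent.BlockThree

open Cfsg Cfsg.Agent Cfsg.Agent.Char Cfsg.Agent.Blocks Cfsg.Agent.BrauerPairs
  Cfsg.Agent.RelMcKay Cfsg.Agent.CharExtend

universe u

variable {G : Type u} [Group G] [Fintype G] {p : ℕ} {M : Ideal AlgInt} [M.IsPrime]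

/-- An element fixing one member of a block of a normal subgroup maps the block to itself. -/
theorem cjIrr_mem_block {C : Subgroup G} [C.Normal] [Fintype C] {c : Set (IrrCharacter C)}
    (hc : IsPBlock M c) {g : G} {φ : IrrCharacter C} (hφ : φ ∈ c) (hg : cjIrr C g φ ∈ c)
    {η : IrrCharacter C} (hη : η ∈ c) : cjIrr C g η ∈ c :=
  isPBlock_mem_of_sameBlock hc hg (sameBlock_cjIrr C (isPBlock_sameBlock hc hφ hη) g)

/-- The root block covers one block only. -/
theorem mem_block_of_over (hM : IsPModular p M) {A : Subgroup G} [A.Normal] (hA : IsPGroup p A)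
    {C : Subgroup G} [C.Normal] [Fintype C] (hC : Subgroup.centralizer (A : Set G) ≤ C)
    {B : Set (IrrCharacter G)} (hB : IsPBlock M B) {c : Set (IrrCharacter C)} (hc : IsPBlock M c)
    (hcov : ∃ χ ∈ B, ∃ φ ∈ c, classInner (fun k : C => (χ : G → ℂ) k) (φ : C → ℂ) ≠ 0)
    {φ : IrrCharacter C} (hφ : φ ∈ c) {χ : IrrCharacter G}
    (hχ : χ ∈ OverTh C (φ : C → ℂ)) : χ ∈ B := by
  obtain ⟨χ₀, hχ₀⟩ := isPBlock_nonempty hB
  have h1 := (covers_iff C hB hc).1 hcov χ₀ hχ₀ φ hφ
  have h2 := (covers_iff C (isPBlock_blockOf (M := M) χ) hc).1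
    ⟨χ, self_mem_blockOf χ, φ, hφ, hχ⟩ χ (self_mem_blockOf χ) φ hφ
  refine isPBlock_mem_of_sameBlock hB hχ₀ fun g => ?_
  by_cases hg : g ∈ C
  · have h3 := MemLocalIdeal.sub (h2 ⟨g, hg⟩) (h1 ⟨g, hg⟩)
    simp only [sub_sub_sub_cancel_right] at h3
    first
      | exact h3
      | simpa using MemLocalIdeal.neg h3
  · have hsmall : ∀ η : IrrCharacter G, MemLocalIdeal M (centralChar (η : G → ℂ) g) := fun η => by
      by_contra h
      exact hg (hC (mem_centralizer_of_not_memLocalIdeal hM A hA h))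
    exact MemLocalIdeal.sub (hsmall _) (hsmall _)

/-- The central characters of the root block of an abelian normal defect group. -/
theorem exists_lam (hM : IsPModular p M) {A : Subgroup G} {C : Subgroup G}
    [Fintype C] (hAC : A ≤ C) (hcent : C ≤ Subgroup.centralizer (A : Set G))
    {c : Set (IrrCharacter C)} (hc : IsPBlock M c) (hD : IsDefectGroup p M c (A.subgroupOf C)) :
    ∃ θ ∈ c, ∃ lam : IrrCharacter C → (A →* ℂˣ),
      (∀ (φ : IrrCharacter C) (a : A),
        (φ : C → ℂ) (Subgroup.inclusion hAC a) = lam φ a * (φ : C → ℂ) 1) ∧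
      (∀ φ ∈ c, lam φ = 1 ↔ φ = θ) ∧ Set.BijOn lam c Set.univ ∧
      ∀ φ ∈ c, charDegree (φ : C → ℂ) = charDegree (θ : C → ℂ) := by
  classical
  haveI := Fact.mk hM.1
  set P := A.subgroupOf C with hPdef
  have hPc : P ≤ Subgroup.center C := fun x hx => Subgroup.mem_center_iff.2 fun y =>
    Subtype.ext (Subgroup.mem_centralizer_iff.1 (hcent y.2) x hx).symm
  haveI : P.Normal := ⟨fun x hx y => by
    rw [Subgroup.mem_center_iff.1 (hPc hx) y, mul_inv_cancel_right]; exact hx⟩
  haveI : Fintype P := Fintype.ofFinite _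
  have htop : P ⊔ Subgroup.centralizer (P : Set C) = ⊤ := eq_top_iff.2 fun y _ =>
    Subgroup.mem_sup_right (Subgroup.mem_centralizer_iff.2 fun x hx =>
      (Subgroup.mem_center_iff.1 (hPc hx) y).symm)
  obtain ⟨θ, hθ, htriv, huniq, ξ, hξ, hreg, hbij⟩ :=
    product_block hM (isPGroup_defectGroup hD) htop hc hD
  have hk : ∀ a : A, Subgroup.inclusion hAC a ∈ Subgroup.center C := fun a => hPc a.2
  choose lam hlam using fun φ : IrrCharacter C => exists_central_hom (Subgroup.inclusion hAC) hk φ.2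
  have hval : ∀ (φ : IrrCharacter C) (a : A),
      (φ : C → ℂ) (Subgroup.inclusion hAC a) = lam φ a * (φ : C → ℂ) 1 := fun φ a => by
    simpa using hlam φ a 1
  have hPcomm : ∀ x y : P, x * y = y * x := fun x y =>
    Subtype.ext (Subgroup.mem_center_iff.1 (hPc y.2) x)
  have hξ1 : ∀ φ, (ξ φ : P → ℂ) 1 = 1 := fun φ => by
    rw [irr_one_eq_charDegree, charDegree_eq_one_of_comm hPcomm, Nat.cast_one]
  have hξval : ∀ φ ∈ c, ∀ a : A,
      (ξ φ : P → ℂ) ⟨Subgroup.inclusion hAC a, a.2⟩ = lam φ a := fun φ hφ a => by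
    have h := hξ φ hφ ⟨Subgroup.inclusion hAC a, a.2⟩
    rw [hval, hξ1, mul_one, mul_comm] at h
    exact (mul_left_cancel₀ (irr_one_ne_zero φ) h).symm
  have hsur : ∀ x : P, ∃ a : A, (⟨Subgroup.inclusion hAC a, a.2⟩ : P) = x := fun x =>
    ⟨⟨x.1.1, x.2⟩, rfl⟩
  refine ⟨θ, hθ, lam, hval, fun φ hφ => ⟨fun h1 => huniq φ hφ fun x hx => ?_, ?_⟩,
    ⟨fun φ _ => Set.mem_univ _, fun φ hφ ψ hψ e => hbij.injOn hφ hψ ?_, fun w _ => ?_⟩,
    fun φ hφ => ?_⟩
  · have h := hval φ ⟨x, hx⟩
    rw [h1, MonoidHom.one_apply, Units.val_one, one_mul] at h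
    exact h
  · rintro rfl
    refine MonoidHom.ext fun a => Units.ext ?_
    have h := hval φ a
    rw [htriv _ a.2] at h
    exact (mul_eq_right₀ (irr_one_ne_zero φ)).1 h.symm
  · refine Subtype.ext (funext fun x => ?_)
    obtain ⟨a, rfl⟩ := hsur x
    rw [hξval φ hφ, hξval ψ hψ, e]
  · let e : P ≃* A := Subgroup.subgroupOfEquivOfLe hAC
    let ζ : IrrCharacter P := ⟨fun x => (w (e x) : ℂ), isIrrCharacter_linear (w.comp e.toMonoidHom)⟩
    obtain ⟨φ, hφ, hφe⟩ := hbij.surjOn (Set.mem_univ ζ)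
    refine ⟨φ, hφ, MonoidHom.ext fun a => Units.ext ?_⟩
    rw [← hξval φ hφ a, hφe]
    rfl
  · have h := hreg φ hφ 1 (by simpa using hM.1.ne_one)
    rw [hξ1, one_mul, irr_one_eq_charDegree, irr_one_eq_charDegree, Nat.cast_inj] at h
    exact h

/-- A character over a member with nontrivial central character is nontrivial on `A`. -/
theorem not_trivial_of_over {A C : Subgroup G} [Fintype C] (hAC : A ≤ C) {φ : IrrCharacter C}
    {w : A →* ℂˣ}
    (hw : ∀ a : A, (φ : C → ℂ) (Subgroup.inclusion hAC a) = w a * (φ : C → ℂ) 1) (hw1 : w ≠ 1)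
    {χ : IrrCharacter G} (hχ : classInner (fun k : C => (χ : G → ℂ) k) (φ : C → ℂ) ≠ 0) :
    ∃ a ∈ A, (χ : G → ℂ) a ≠ (χ : G → ℂ) 1 := by
  classical
  haveI := Fintype.ofFinite A
  by_contra hne
  push Not at hne
  have h1 : Lies C.subtype (χ : G → ℂ) (φ : C → ℂ) := lies_iff.2 hχ
  have h2 : Lies (Subgroup.inclusion hAC) (φ : C → ℂ) (fun a : A => (w a : ℂ)) := by
    rw [lies_iff, show (fun a : A => (φ : C → ℂ) (Subgroup.inclusion hAC a)) =
      (φ : C → ℂ) 1 • fun a : A => (w a : ℂ) from funext fun a => by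
        rw [Pi.smul_apply, smul_eq_mul, hw, mul_comm], classInner_smul_left,
      classInner_self_irr (isIrrCharacter_linear w), mul_one]
    exact irr_one_ne_zero φ
  have h3 := lies_trans (irr_isCharacter χ) (IsIrrCharacter.isCharacter (isIrrCharacter_linear w))
    h1 h2
  rw [lies_iff, show (fun a : A => (χ : G → ℂ) (C.subtype.comp (Subgroup.inclusion hAC) a)) =
      (χ : G → ℂ) 1 • fun a : A => ((1 : A →* ℂˣ) a : ℂ) from funext fun a => by
        rw [Pi.smul_apply, smul_eq_mul, MonoidHom.one_apply, Units.val_one, mul_one]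
        exact hne a a.2, classInner_smul_left] at h3
  refine h3 (mul_eq_zero_of_right _ (classInner_irr_of_ne (isIrrCharacter_linear 1)
    (isIrrCharacter_linear w) fun e => hw1 (detHom_unique e).symm))

end Cfsg.Agent.BlockThree
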