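import Cfsg.Agent.Lib.Char.TransPStab
import Cfsg.Agent.Lib.LocalEven.Zsigmondy
import Mathlib.GroupTheory.SpecificGroups.Cyclic
import Mathlib.GroupTheory.Perm.Cycle.Type
import Mathlib.GroupTheory.QuotientGroup.Basic
import Mathlib.RingTheory.IntegralDomain

/-!
# Coprime transitive automorphism groups with small stabilisers

A group of order prime to `p`, transitive on the nontrivial elements of an abelian `p`-group of
order at least `4`, `p` odd, in which cyclic stabilisers are trivial, is cyclic of order at least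
three, quaternion of order eight, or has a nontrivial cyclic Sylow subgroup for an odd prime.
-/

set_option autoImplicit false
set_option linter.style.haveILetI false
set_option linter.unusedSectionVars false

namespace Cfsg.Agent.BlockThree

universe u v

variable {E : Type u} [Group E] [Finite E] {W : Type v} [CommGroup W] [Finite W]
  (ρ : E →* MulAut W)

/-- The stabiliser of an element under a homomorphism to the automorphisms. -/
def stabW (w : W) : Subgroup E where
  carrier := {e | ρ e w = w}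
  one_mem' := by simp
  mul_mem' := fun {a b} (ha : ρ a w = w) (hb : ρ b w = w) => by
    show ρ (a * b) w = w
    rw [map_mul, MulAut.mul_apply, hb, ha]
  inv_mem' := fun {a} (ha : ρ a w = w) => by
    show ρ a⁻¹ w = w
    conv_lhs => rw [← ha]
    rw [← MulAut.mul_apply, ← map_mul, inv_mul_cancel, map_one, MulAut.one_apply]

theorem mem_stabW {w : W} {e : E} : e ∈ stabW ρ w ↔ ρ e w = w := Iff.rfl

variable {p : ℕ}

theorem card_eq_mul_stab (htrans : ∀ a b : W, a ≠ 1 → b ≠ 1 → ∃ e, ρ e a = b) {w : W}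
    (hw : w ≠ 1) : Nat.card E = (Nat.card W - 1) * Nat.card (stabW ρ w) := by
  letI act : MulAction E W :=
    { smul := fun e a => ρ e a
      one_smul := fun a => by show ρ 1 a = a; rw [map_one, MulAut.one_apply]
      mul_smul := fun a b c => by show ρ (a * b) c = ρ a (ρ b c); rw [map_mul, MulAut.mul_apply] }
  have hstab : MulAction.stabilizer E w = stabW ρ w := Subgroup.ext fun e => Iff.rfl
  have horb : MulAction.orbit E w = ({1} : Set W)ᶜ := by
    ext a
    refine ⟨?_, fun ha => ?_⟩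
    · rintro ⟨e, rfl⟩ (h : ρ e w = 1)
      exact hw ((ρ e).injective (h.trans (map_one _).symm))
    · obtain ⟨e, he⟩ := htrans w a hw ha
      exact ⟨e, he⟩
  have h := (stabW ρ w).index_mul_card
  rw [← h]
  congr 1
  rw [← hstab, MulAction.index_stabilizer, horb, Set.ncard_compl, Set.ncard_singleton]

theorem pow_eq_one_of_trans (hp : p.Prime) {n : ℕ} (hW : Nat.card W = p ^ n) (hn : 1 ≤ n)
    (htrans : ∀ a b : W, a ≠ 1 → b ≠ 1 → ∃ e, ρ e a = b) (w : W) : w ^ p = 1 := by
  haveI := Fact.mk hp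
  obtain ⟨z, hz⟩ := exists_prime_orderOf_dvd_card' (G := W) p (hW ▸ dvd_pow_self p (by omega))
  by_cases hw : w = 1
  · rw [hw, one_pow]
  · obtain ⟨e, he⟩ := htrans z w
      (fun h => hp.one_lt.ne (by rw [← hz, h, orderOf_one])) hw
    rw [← he, ← map_pow, ← hz, pow_orderOf_eq_one, map_one]

theorem isCyclic_of_prime_target {H : Type*} [Group H] [Finite H] {V : Type*} [Group V] [Finite V]
    (hp : p.Prime) (hV : Nat.card V = p) (f : H →* MulAut V) (hf : Function.Injective f) :
    IsCyclic H := by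
  haveI := Fact.mk hp
  haveI : IsCyclic V := isCyclic_of_prime_card hV
  haveI : Fact (Nat.card V).Prime := ⟨hV.symm ▸ hp⟩
  let g : H →* (ZMod (Nat.card V))ˣ := (IsCyclic.mulAutMulEquiv V).toMonoidHom.comp f
  have hg : Function.Injective g := (IsCyclic.mulAutMulEquiv V).injective.comp hf
  exact isCyclic_of_injective g hg

/-- A stabiliser in rank two is cyclic. -/
theorem isCyclic_stab_two (hp : p.Prime) (hρ : Function.Injective ρ)
    (hE : ¬ p ∣ Nat.card E) (hW : Nat.card W = p ^ 2) (hexp : ∀ a : W, a ^ p = 1) {w : W}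
    (hw : w ≠ 1) : IsCyclic (stabW ρ w) := by
  haveI := Fact.mk hp
  set N := Subgroup.zpowers w with hN
  have how : orderOf w = p := orderOf_eq_prime (hexp w) hw
  have hQ : Nat.card (W ⧸ N) = p := by
    have h := N.card_eq_card_quotient_mul_card_subgroup
    rw [hN, Nat.card_zpowers, how, hW, pow_two] at h
    exact (Nat.eq_of_mul_eq_mul_right hp.pos h).symm
  have hmapN : ∀ e ∈ stabW ρ w, N.map (ρ e).toMonoidHom = N := fun e he => by
    rw [hN, MonoidHom.map_zpowers]
    exact congrArg Subgroup.zpowers he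
  let f : stabW ρ w →* MulAut (W ⧸ N) :=
    { toFun := fun e => QuotientGroup.congr N N (ρ e) (hmapN e e.2)
      map_one' := MulEquiv.ext fun x => by
        obtain ⟨a, rfl⟩ := QuotientGroup.mk_surjective x
        show ((ρ ((1 : stabW ρ w) : E) a : W) : W ⧸ N) = _
        simp
      map_mul' := fun a b => MulEquiv.ext fun x => by
        obtain ⟨c, rfl⟩ := QuotientGroup.mk_surjective x
        show ((ρ ((a * b : stabW ρ w) : E) c : W) : W ⧸ N) = ((ρ a (ρ b c) : W) : W ⧸ N)
        simp }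
  refine isCyclic_of_prime_target hp hQ f ((injective_iff_map_eq_one f).2 fun e he => ?_)
  have hq : ∀ a : W, ∃ i : ℤ, ρ (e : E) a = a * w ^ i := fun a => by
    have h1 : ((ρ (e : E) a : W) : W ⧸ N) = (a : W ⧸ N) := DFunLike.congr_fun he (a : W ⧸ N)
    obtain ⟨i, hi⟩ := Subgroup.mem_zpowers_iff.1 (QuotientGroup.eq.1 h1.symm)
    exact ⟨i, by rw [hi, mul_inv_cancel_left]⟩
  have hpow : (e : E) ^ p = 1 := hρ (MulEquiv.ext fun a => by
    obtain ⟨i, hi⟩ := hq a
    have hk : ∀ k : ℕ, ρ ((e : E) ^ k) a = a * (w ^ i) ^ k := by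
      intro k
      induction k with
      | zero => simp
      | succ k ih =>
        rw [pow_succ', map_mul, MulAut.mul_apply, ih, map_mul, hi, map_pow, map_zpow, e.2,
          mul_assoc, ← pow_succ']
    rw [hk, map_one, MulAut.one_apply, hexp, mul_one])
  rcases (Nat.dvd_prime hp).1 (orderOf_dvd_of_pow_eq_one hpow) with h | h
  · exact Subtype.ext (orderOf_eq_one_iff.1 h)
  · exact absurd (h ▸ orderOf_dvd_natCard (e : E)) hE

/-- An element of prime-power order for a primitive prime fixes only the identity. -/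
theorem fpf_of_primitive {r n : ℕ} [Fact r.Prime] (hp : p.Prime) (hn : 0 < n)
    (hW : Nat.card W = p ^ n) (hρ : Function.Injective ρ) (hrd : r ∣ p ^ n - 1)
    (hprim : ∀ k : ℕ, 0 < k → k < n → ¬ r ∣ p ^ k - 1) {x : E} {j : ℕ}
    (hx : orderOf x = r ^ j) (hx1 : x ≠ 1) {w : W} (hw : ρ x w = w) : w = 1 := by
  classical
  letI act : MulAction (Subgroup.zpowers x) W :=
    { smul := fun e a => ρ (e : E) a
      one_smul := fun a => by show ρ 1 a = a; rw [map_one, MulAut.one_apply]
      mul_smul := fun a b c => by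
        show ρ ((a : E) * b) c = ρ a (ρ b c); rw [map_mul, MulAut.mul_apply] }
  set F : Subgroup W := MonoidHom.eqLocus (ρ x).toMonoidHom (MonoidHom.id W) with hF
  have hfix : MulAction.fixedPoints (Subgroup.zpowers x) W = (F : Set W) := by
    ext a
    refine ⟨fun h => h ⟨x, Subgroup.mem_zpowers x⟩, fun (h : ρ x a = a) e => ?_⟩
    exact Subgroup.zpowers_le.2 (show x ∈ stabW ρ a from h) e.2
  haveI := Fact.mk hp
  have hmod := (IsPGroup.of_card (n := j) (by rw [Nat.card_zpowers, hx]) :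
    IsPGroup r (Subgroup.zpowers x)).card_modEq_card_fixedPoints W
  rw [hW, Nat.card_congr (Equiv.setCongr hfix)] at hmod
  obtain ⟨i, hi, hFi⟩ := (Nat.dvd_prime_pow hp).1 (hW ▸ F.card_subgroup_dvd_card)
  rw [show Nat.card (F : Set W) = p ^ i from hFi] at hmod
  have hle : p ^ i ≤ p ^ n := Nat.pow_le_pow_right hp.pos hi
  have hd : r ∣ p ^ i * (p ^ (n - i) - 1) := by
    rw [Nat.mul_sub, mul_one, ← pow_add, Nat.add_sub_cancel' hi]
    exact (Nat.modEq_iff_dvd' hle).1 hmod.symm
  have hin : i ≠ n := by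
    rintro rfl
    refine hx1 (hρ (MulEquiv.ext fun a => ?_))
    have hFtop : F = ⊤ := Subgroup.eq_top_of_card_eq F (hFi.trans hW.symm)
    rw [map_one, MulAut.one_apply]
    exact (hFtop ▸ Subgroup.mem_top a : a ∈ F)
  have hrp : ¬ r ∣ p ^ i := fun h => by
    have h1 : r ∣ p ^ n := h.trans (pow_dvd_pow p hi)
    have h2 : r ∣ p ^ n - (p ^ n - 1) := Nat.dvd_sub h1 hrd
    rw [Nat.sub_sub_self (Nat.one_le_pow _ _ hp.pos)] at h2
    exact (Fact.out : r.Prime).one_lt.ne' (Nat.dvd_one.1 h2)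
  rcases Nat.eq_zero_or_pos i with rfl | hi0
  · have hFbot : F = ⊥ := Subgroup.eq_bot_of_card_eq F (by rw [hFi, pow_zero])
    exact Subgroup.mem_bot.1 (hFbot ▸ (show w ∈ F from hw))
  · exact absurd ((((Fact.out : r.Prime)).dvd_mul.1 hd).resolve_left hrp)
      (hprim _ (by omega) (by omega))

/-- A fixed-point-free `r`-subgroup, `r` odd, is cyclic. -/
theorem isCyclic_of_free {r : ℕ} [Fact r.Prime] (hr : r ≠ 2) [Nontrivial W] (R : Subgroup E)
    (hR : IsPGroup r R) (hfree : ∀ a ∈ R, a ≠ 1 → ∀ w : W, ρ a w = w → w = 1) : IsCyclic R := by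
  rcases TransPStab.cyclic_or_quat_of_fpf hR (ρ.comp R.subtype)
      (fun a ha w hw => hfree a a.2 (fun h => ha (Subtype.ext h)) w hw) with h | ⟨h, -⟩
  · exact h
  · exact absurd h hr

/-- The three possible shapes. -/
theorem orbit_cases (hp : p.Prime) (hp2 : p ≠ 2) {n : ℕ} (hW : Nat.card W = p ^ n)
    (h4 : 4 ≤ Nat.card W) (hρ : Function.Injective ρ) (hE : ¬ p ∣ Nat.card E)
    (htrans : ∀ a b : W, a ≠ 1 → b ≠ 1 → ∃ e, ρ e a = b)
    (hst : ∀ w : W, w ≠ 1 → IsCyclic (stabW ρ w) → stabW ρ w = ⊥) :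
    (IsCyclic E ∧ 3 ≤ Nat.card E) ∨ Nonempty (E ≃* QuaternionGroup 2) ∨
      ∃ r : ℕ, r.Prime ∧ r ≠ 2 ∧ r ∣ Nat.card E ∧ ∀ R : Sylow r E, IsCyclic R := by
  classical
  haveI : Nontrivial W := Finite.one_lt_card_iff_nontrivial.1 (by omega)
  obtain ⟨w₀, hw₀⟩ := exists_ne (1 : W)
  have hn0 : 1 ≤ n := by
    by_contra h
    rw [show n = 0 by omega, pow_zero] at hW
    omega
  have hexp := pow_eq_one_of_trans ρ hp hW hn0 htrans
  have hcard := card_eq_mul_stab ρ htrans hw₀
  rw [hW] at hcard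
  rcases hn0.eq_or_lt with rfl | hn2
  · -- rank one
    rw [pow_one] at hW hcard
    haveI := Fact.mk hp
    refine Or.inl ⟨isCyclic_of_prime_target hp hW ρ hρ, ?_⟩
    have hbot : stabW ρ w₀ = ⊥ := (Subgroup.eq_bot_iff_forall _).2 fun e he => hρ <| by
      refine MulEquiv.ext fun a => ?_
      obtain ⟨i, rfl⟩ := Subgroup.mem_zpowers_iff.1
        (mem_zpowers_of_prime_card hW (g := w₀) (g' := a) hw₀)
      rw [map_zpow, mem_stabW ρ |>.1 he, map_one, MulAut.one_apply]
    rw [hcard, hbot, Subgroup.card_bot, mul_one]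
    omega
  by_cases hex : n = 2 ∧ ∃ a : ℕ, p + 1 = 2 ^ a
  · obtain ⟨rfl, a, ha⟩ := hex
    have hfree : ∀ e : E, e ≠ 1 → ∀ w : W, ρ e w = w → w = 1 := fun e he w hw => by
      by_contra hw1
      have hbot := hst w hw1 (isCyclic_stab_two ρ hp hρ hE hW hexp hw1)
      exact he (Subgroup.mem_bot.1 (hbot ▸ (show e ∈ stabW ρ w from hw)))
    by_cases hodd : ∃ r : ℕ, r.Prime ∧ r ≠ 2 ∧ r ∣ Nat.card E
    · obtain ⟨r, hr, hr2, hrd⟩ := hodd
      haveI := Fact.mk hr
      exact Or.inr (Or.inr ⟨r, hr, hr2, hrd, fun R =>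
        isCyclic_of_free ρ hr2 _ R.isPGroup' fun x _ hx => hfree x hx⟩)
    push Not at hodd
    have hbot : stabW ρ w₀ = ⊥ := hst w₀ hw₀ (isCyclic_stab_two ρ hp hρ hE hW hexp hw₀)
    rw [hbot, Subgroup.card_bot, mul_one] at hcard
    have hEfac : p ^ 2 - 1 = (p + 1) * (p - 1) := by rw [← Nat.sq_sub_sq, one_pow]
    have hpo : p % 2 = 1 := hp.eq_two_or_odd.resolve_left hp2
    obtain ⟨b, hb⟩ : ∃ b : ℕ, p - 1 = 2 ^ b := ⟨_, Nat.eq_prime_pow_of_unique_prime_dvd
      (by have := hp.two_le; omega) fun {d} hd hdd => by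
        by_contra h2
        exact hodd d hd h2 (by rw [hcard, hEfac]; exact hdd.mul_left _)⟩
    have hp3 : p = 3 := by
      have := hp.two_le
      rcases b with _ | _ | b
      · simp at hb; omega
      · simp at hb; omega
      · rcases a with _ | _ | a
        · simp at ha; omega
        · simp at ha; omega
        · rw [pow_succ, pow_succ] at hb ha
          omega
    subst hp3
    norm_num at hcard
    haveI : Fact (Nat.Prime 2) := ⟨Nat.prime_two⟩
    rcases TransPStab.cyclic_or_quat_of_fpf (IsPGroup.of_card (p := 2) (n := 3) hcard) ρ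
        (fun x hx w hw => hfree x hx w hw) with h | ⟨-, k, ⟨e⟩⟩
    · exact Or.inl ⟨h, by omega⟩
    · refine Or.inr (Or.inl ?_)
      haveI : NeZero (2 ^ k) := ⟨pow_ne_zero _ two_ne_zero⟩
      have hk := Nat.card_congr e.toEquiv
      rw [hcard, Nat.card_eq_fintype_card, QuaternionGroup.card] at hk
      have h2 : 2 ^ k = 2 := by omega
      obtain rfl : k = 1 := Nat.pow_right_injective le_rfl (h2.trans (pow_one 2).symm)
      exact ⟨e⟩
  · obtain ⟨r, hr, hrd, hprim⟩ := LEZsig.zsigmondy p n hp.one_lt hn2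
      (fun h => hp2 h.1) hex
    haveI := Fact.mk hr
    have hr2 : r ≠ 2 := by
      rintro rfl
      refine hprim 1 one_pos hn2 ?_
      rw [pow_one]
      have := hp.eq_two_or_odd.resolve_left hp2
      omega
    exact Or.inr (Or.inr ⟨r, hr, hr2, hcard ▸ hrd.mul_right _, fun R =>
      isCyclic_of_free ρ hr2 _ R.isPGroup' fun x hx hx1 w hw => by
        obtain ⟨j, hj⟩ := IsPGroup.iff_orderOf.1 R.isPGroup' ⟨x, hx⟩
        rw [Subgroup.orderOf_mk] at hj
        exact fpf_of_primitive ρ hp (by omega) hW hρ hrd hprim hj hx1 hw⟩)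

end Cfsg.Agent.BlockThree
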