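import Cfsg.Agent.Lib.BrauerPairs.RankQuotient

/-!
# The rank of a block is bounded by its characters trivial on a normal abelian `p`-subgroup
-/

set_option autoImplicit false
set_option linter.style.haveILetI false
set_option linter.unusedSectionVars false

namespace Cfsg.Agent.BlockThree

open Cfsg Cfsg.Agent Cfsg.Agent.Blocks Cfsg.Agent.Char Cfsg.Agent.BrauerPairs
open scoped ComplexConjugate

universe u

variable {G : Type u} [Group G] [Fintype G] {p : ℕ} {M : Ideal AlgInt} [M.IsPrime]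
  (A : Subgroup G) [A.Normal]

/-- Regular elements with the same image modulo a normal abelian `p`-subgroup are conjugate. -/
theorem isConj_of_regular_lift (hp : p.Prime) (hA : IsPGroup p A)
    (hcomm : ∀ a ∈ A, ∀ b ∈ A, a * b = b * a) {g h : G} (hg : ¬ p ∣ orderOf g)
    (hh : ¬ p ∣ orderOf h) (e : (g : G ⧸ A) = (h : G ⧸ A)) : IsConj g h := by
  classical
  haveI := Fact.mk hp
  letI : CommGroup A := { (inferInstance : Group A) with
    mul_comm := fun a b => Subtype.ext (hcomm a a.2 b b.2) }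
  have hmem : ∀ i : ℕ, h ^ i * (g ^ i)⁻¹ ∈ A := fun i => by
    rw [← QuotientGroup.eq_one_iff, QuotientGroup.mk_mul, QuotientGroup.mk_inv, QuotientGroup.mk_pow,
      QuotientGroup.mk_pow, e, mul_inv_cancel]
  let a : ℕ → A := fun i => ⟨_, hmem i⟩
  let Φ : A →* A :=
    { toFun := fun x => ⟨g * x * g⁻¹, (inferInstance : A.Normal).conj_mem x x.2 g⟩
      map_one' := Subtype.ext (by simp)
      map_mul' := fun x y => Subtype.ext (by simp) }
  set n := orderOf g * orderOf h with hn
  have ha0 : a 0 = 1 := Subtype.ext (by simp [a])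
  have han : a n = 1 := Subtype.ext (by
    simp [a, hn, pow_mul, pow_orderOf_eq_one, mul_comm (orderOf g) (orderOf h)]
    rw [← pow_mul, mul_comm, pow_mul, pow_orderOf_eq_one, one_pow])
  have hstep : ∀ i, a (i + 1) = a 1 * Φ (a i) := fun i => Subtype.ext (by
    show h ^ (i + 1) * (g ^ (i + 1))⁻¹ = h ^ 1 * (g ^ 1)⁻¹ * (g * (h ^ i * (g ^ i)⁻¹) * g⁻¹)
    rw [pow_succ' h i, pow_succ' g i, pow_one, pow_one]
    group)
  set P : A := ∏ i ∈ Finset.range n, a i with hP
  have hshift : ∏ i ∈ Finset.range n, a (i + 1) = P := by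
    have h1 := (Finset.prod_range_succ' a n).symm.trans (Finset.prod_range_succ a n)
    rwa [ha0, han, mul_one, mul_one] at h1
  have hkey : a 1 ^ n * Φ P = P := by
    conv_rhs => rw [← hshift, Finset.prod_congr rfl fun i _ => hstep i, Finset.prod_mul_distrib,
      Finset.prod_const, Finset.card_range, ← map_prod, ← hP]
  have hcop : (Nat.card A).Coprime n := by
    obtain ⟨k, hk⟩ := IsPGroup.iff_card.1 hA
    rw [hk, hn]
    exact ((hp.coprime_iff_not_dvd.2 hg).mul_right (hp.coprime_iff_not_dvd.2 hh)).pow_left k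
  obtain ⟨b, hb⟩ : ∃ b : A, b ^ n = P := (powCoprime hcop).surjective P
  have hinj : Function.Injective fun x : A => x ^ n := (powCoprime hcop).injective
  have ha1 : a 1 * Φ b = b := hinj (by
    show (a 1 * Φ b) ^ n = b ^ n
    rw [mul_pow, ← map_pow, hb, hkey])
  refine isConj_iff.2 ⟨b, ?_⟩
  have h2 := congrArg Subtype.val ha1
  change h ^ 1 * (g ^ 1)⁻¹ * (g * (b : G) * g⁻¹) = b at h2
  rw [pow_one, pow_one] at h2
  have h3 : h * (b : G) * g⁻¹ = b := by simpa [mul_assoc] using h2
  have h4 : h = (b : G) * g * (b : G)⁻¹ := by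
    calc h = h * (b : G) * g⁻¹ * g * (b : G)⁻¹ := by group
      _ = _ := by rw [h3]
  exact h4.symm

/-- The rank is at most the number of members trivial on `A`. -/
theorem blockRank_le_trivial (hM : IsPModular p M) (hA : IsPGroup p A)
    (hcomm : ∀ a ∈ A, ∀ b ∈ A, a * b = b * a) {B : Set (IrrCharacter G)} (hB : IsPBlock M B) :
    blockRank p B ≤
      Nat.card {χ : IrrCharacter G // χ ∈ B ∧ ∀ a ∈ A, (χ : G → ℂ) a = (χ : G → ℂ) 1} := by
  classical
  haveI : Fintype (G ⧸ A) := Fintype.ofFinite _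
  set S₀ := Finset.univ.filter fun χ : IrrCharacter G =>
    χ ∈ B ∧ ∀ a ∈ A, (χ : G → ℂ) a = (χ : G → ℂ) 1 with hS₀
  let R : IrrCharacter G → (G → ℂ) := fun χ => pRegularPart p (χ : G → ℂ)
  suffices hle : Submodule.span ℂ (R '' B) ≤ Submodule.span ℂ ((S₀.image R : Finset (G → ℂ)) : Set (G → ℂ)) by
    haveI : Module.Finite ℂ (Submodule.span ℂ ((S₀.image R : Finset (G → ℂ)) : Set (G → ℂ))) :=
      Module.Finite.span_of_finite ℂ (Finset.finite_toSet _)
    refine (Submodule.finrank_mono hle).trans ((finrank_span_finset_le_card _).trans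
      (Finset.card_image_le.trans (le_of_eq ?_)))
    rw [Nat.card_eq_fintype_card, Fintype.card_subtype]
  refine Submodule.span_le.2 ?_
  rintro _ ⟨χ, hχ, rfl⟩
  let lift : G ⧸ A → G := fun y => if h : ¬ p ∣ orderOf y
    then (exists_regular_lift A hM.1 h).choose else 1
  let f : G ⧸ A → ℂ := fun y => if p ∣ orderOf y then 0 else (χ : G → ℂ) (lift y)
  have hlift : ∀ g : G, ¬ p ∣ orderOf g → (χ : G → ℂ) (lift (g : G ⧸ A)) = (χ : G → ℂ) g := by
    intro g hg
    simp only [lift, dif_pos (regular_mk A hM.1 hg)]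
    obtain ⟨h1, h2⟩ := (exists_regular_lift A hM.1 (regular_mk A hM.1 hg)).choose_spec
    obtain ⟨c, hc⟩ := isConj_iff.1 (isConj_of_regular_lift A hM.1 hA hcomm h1 hg h2)
    have h3 := IsCharacter.isClassFunction (irr_isCharacter χ)
      (exists_regular_lift A hM.1 (regular_mk A hM.1 hg)).choose c
    rw [hc] at h3
    exact h3.symm
  have hf : IsClassFunction (G ⧸ A) f := by
    intro y c
    obtain ⟨c, rfl⟩ := QuotientGroup.mk_surjective c
    have horder : orderOf ((c : G ⧸ A) * y * (c : G ⧸ A)⁻¹) = orderOf y := by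
      rw [← MulAut.conj_apply, MulEquiv.orderOf_eq]
    simp only [f, horder]
    by_cases hy : p ∣ orderOf y
    · simp [hy]
    obtain ⟨g, hg, rfl⟩ := exists_regular_lift A hM.1 hy
    have hcg : ¬ p ∣ orderOf (c * g * c⁻¹) := by
      rwa [← MulAut.conj_apply, MulEquiv.orderOf_eq]
    rw [if_neg hy, if_neg hy, ← QuotientGroup.mk_inv, ← QuotientGroup.mk_mul, ← QuotientGroup.mk_mul,
      hlift g hg, hlift _ hcg]
    exact IsCharacter.isClassFunction (irr_isCharacter χ) g c
  let c : IrrCharacter (G ⧸ A) → ℂ := fun ψ => classInner f (ψ : G ⧸ A → ℂ)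
  have hexp : ∀ g : G, R χ g = ∑ ψ, c ψ * R (Cfsg.Agent.CharX.infl A ψ) g := by
    intro g
    simp only [R, pRegularPart, IsPRegular]
    by_cases hg : p ∣ orderOf g
    · simp [hg]
    · simp only [hg, not_false_eq_true, if_true, Cfsg.Agent.CharX.infl_apply]
      have h1 := congrFun (classFunction_eq_sum hf) (g : G ⧸ A)
      simp only [f, if_neg (regular_mk A hM.1 hg), hlift g hg, Finset.sum_apply, Pi.smul_apply,
        smul_eq_mul] at h1
      exact h1
  set I := Finset.univ.filter fun ψ : IrrCharacter (G ⧸ A) =>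
    Cfsg.Agent.CharX.infl A ψ ∈ B with hI
  let D : G → ℂ := fun g => R χ g - ∑ ψ ∈ I, c ψ * R (Cfsg.Agent.CharX.infl A ψ) g
  have hD : ∀ g, D g = ∑ ψ ∈ Iᶜ, c ψ * R (Cfsg.Agent.CharX.infl A ψ) g := fun g => by
    simp only [D, hexp g, ← Finset.sum_add_sum_compl I (fun ψ => c ψ * R (Cfsg.Agent.CharX.infl A ψ) g)]
    ring
  have horth : ∀ φ ∈ B, ∀ ψ ∈ Iᶜ,
      ∑ g : G, R (Cfsg.Agent.CharX.infl A ψ) g * conj (R φ g) = 0 := by
    intro φ hφ ψ hψ
    have hns : ¬ SameBlock M ((Cfsg.Agent.CharX.infl A ψ : IrrCharacter G) : G → ℂ) (φ : G → ℂ) :=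
      fun h => Finset.mem_compl.1 hψ (Finset.mem_filter.2 ⟨Finset.mem_univ _,
        isPBlock_mem_of_sameBlock hB hφ
          (fun g => by simpa using MemLocalIdeal.neg (h g))⟩)
    rw [← sum_regular_eq_zero hM hns, Finset.sum_filter]
    refine Finset.sum_congr rfl fun g _ => ?_
    simp only [R, pRegularPart, IsPRegular]
    by_cases hg : p ∣ orderOf g <;> simp [hg]
  have hzero : ∑ g : G, D g * conj (D g) = 0 := by
    calc ∑ g : G, D g * conj (D g)
        = ∑ g : G, (∑ ψ ∈ Iᶜ, c ψ * R (Cfsg.Agent.CharX.infl A ψ) g) *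
            conj (R χ g - ∑ φ ∈ I, c φ * R (Cfsg.Agent.CharX.infl A φ) g) :=
          Finset.sum_congr rfl fun g _ => by rw [← hD g]
      _ = 0 := by
        simp only [map_sub, map_sum, map_mul, mul_sub, Finset.sum_mul, Finset.mul_sum,
          Finset.sum_sub_distrib]
        rw [Finset.sum_comm (s := Finset.univ), Finset.sum_eq_zero (s := Iᶜ) (fun ψ hψ => ?_),
          zero_sub, neg_eq_zero, Finset.sum_comm (s := Finset.univ)]
        · refine Finset.sum_eq_zero fun φ hφ => ?_
          rw [Finset.sum_comm]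
          refine Finset.sum_eq_zero fun ψ hψ => ?_
          have h0 := horth _ (Finset.mem_filter.1 hφ).2 ψ hψ
          calc _ = c ψ * conj (c φ) * ∑ g : G, R (Cfsg.Agent.CharX.infl A ψ) g *
                conj (R (Cfsg.Agent.CharX.infl A φ) g) := by
                  rw [Finset.mul_sum]; exact Finset.sum_congr rfl fun g _ => by ring
            _ = 0 := by rw [h0, mul_zero]
        · simp only [mul_assoc, ← Finset.mul_sum, horth χ hχ ψ hψ, mul_zero]
  have hD0 : ∀ g, D g = 0 := fun g => by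
    simp only [Complex.mul_conj, ← Complex.ofReal_sum, Complex.ofReal_eq_zero] at hzero
    exact Complex.normSq_eq_zero.1 ((Finset.sum_eq_zero_iff_of_nonneg
      fun g _ => Complex.normSq_nonneg _).1 hzero g (Finset.mem_univ _))
  have heq : R χ = ∑ ψ ∈ I, c ψ • R (Cfsg.Agent.CharX.infl A ψ) := funext fun g => by
    simp only [Finset.sum_apply, Pi.smul_apply, smul_eq_mul]
    exact sub_eq_zero.1 (hD0 g)
  rw [heq]
  refine Submodule.sum_mem _ fun ψ hψ => Submodule.smul_mem _ _ (Submodule.subset_span ?_)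
  refine Finset.mem_coe.2 (Finset.mem_image_of_mem R (Finset.mem_filter.2
    ⟨Finset.mem_univ _, (Finset.mem_filter.1 hψ).2, fun a ha => ?_⟩))
  rw [Cfsg.Agent.CharX.infl_apply, Cfsg.Agent.CharX.infl_apply,
    (QuotientGroup.eq_one_iff a).2 ha, QuotientGroup.mk_one]

end Cfsg.Agent.BlockThree
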