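import Cfsg.Agent.Lib.BlockThree.Local
import Cfsg.Agent.Lib.BlockThree.Regular
import Cfsg.Agent.Lib.BlockThree.Orbit

/-!
# A block with normal abelian defect group and at most three characters has defect group of order
at most three
-/

set_option autoImplicit false
set_option linter.style.haveILetI false
set_option linter.unusedSectionVars false

namespace Cfsg.Agent.BlockThree

open Cfsg Cfsg.Agent Cfsg.Agent.Char Cfsg.Agent.Blocks Cfsg.Agent.BrauerPairs

universe u

variable {G : Type u} [Group G] [Fintype G] {p : ℕ} {M : Ideal AlgInt} [M.IsPrime]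

/-- Outside small defect a block with at most three characters has three characters and rank
two. -/
theorem three_two_of_large (hM : IsPModular p M) {B : Set (IrrCharacter G)} (hB : IsPBlock M B)
    {A : Subgroup G} (hA : IsDefectGroup p M B A) (hk : Nat.card B ≤ 3) (h4 : 4 ≤ Nat.card A) :
    Nat.card B = 3 ∧ blockRank p B = 2 := by
  haveI := Fact.mk hM.1
  obtain ⟨hle, -, hfull⟩ := rank_full_iff hM hB
  have h1 := one_le_blockRank hM hB
  have hne : Nat.card B ≠ blockRank p B := fun e => by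
    rw [card_defectGroup hM hB hA, hfull.2 e, pow_zero] at h4
    omega
  have h2 : Nat.card B ≠ 2 := fun e => by
    have := (card_two_iff hM hB hA).1 e
    omega
  have h3 : blockRank p B ≠ 1 := fun e => by
    have := (nilpotent_of_small hM hB hA e (by omega)).2
    omega
  omega

/-- The action of the inertia group on linear characters of a normal subgroup. -/
noncomputable def dualAct (A : Subgroup G) [A.Normal] (T : Subgroup G) :
    T →* MulAut (A →* ℂˣ) where
  toFun t :=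
    { toFun := fun w => w.comp (Char.conjHom A (t : G)⁻¹)
      invFun := fun w => w.comp (Char.conjHom A (t : G))
      left_inv := fun w => MonoidHom.ext fun a => congrArg w <| by
        rw [← Char.conjHom_mul, inv_mul_cancel, Char.conjHom_one]
      right_inv := fun w => MonoidHom.ext fun a => congrArg w <| by
        rw [← Char.conjHom_mul, mul_inv_cancel, Char.conjHom_one]
      map_mul' := fun _ _ => rfl }
  map_one' := MulEquiv.ext fun w => MonoidHom.ext fun a => congrArg w <| by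
    show Char.conjHom A ((1 : T) : G)⁻¹ a = a
    rw [OneMemClass.coe_one, inv_one, Char.conjHom_one]
  map_mul' s t := MulEquiv.ext fun w => MonoidHom.ext fun a => congrArg w <| by
    show Char.conjHom A ((s * t : T) : G)⁻¹ a = Char.conjHom A (t : G)⁻¹ (Char.conjHom A (s : G)⁻¹ a)
    rw [← Char.conjHom_mul, Subgroup.coe_mul, mul_inv_rev]

set_option maxHeartbeats 800000 in
/-- The defect group has order at most three. -/
theorem card_defect_le_three (hM : IsPModular p M) {B : Set (IrrCharacter G)} (hB : IsPBlock M B)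
    {A : Subgroup G} [A.Normal] (hA : IsDefectGroup p M B A)
    (hcomm : ∀ a ∈ A, ∀ b ∈ A, a * b = b * a) (hk : Nat.card B ≤ 3) : Nat.card A ≤ 3 := by
  classical
  by_contra hbig
  obtain ⟨hk3, hl2⟩ := three_two_of_large hM hB hA hk (by omega)
  haveI := Fact.mk hM.1
  have hp := hM.1
  have hAp := isPGroup_defectGroup hA
  obtain ⟨n, hn⟩ := IsPGroup.iff_card.1 hAp
  haveI hCn : (Subgroup.centralizer (A : Set G)).Normal := centralizer_normal_of_normal A
  let C := Subgroup.centralizer (A : Set G)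
  haveI : C.Normal := hCn
  haveI : Fintype C := Fintype.ofFinite _
  have hAC : A ≤ C := fun a ha => Subgroup.mem_centralizer_iff.2 fun b hb => hcomm b hb a ha
  have hCN : C ≤ Subgroup.normalizer (A : Set G) := Subgroup.centralizer_le_normalizer _
  -- the root block
  obtain ⟨c, hind⟩ := (exists_inducing_iff hM hAp hAC le_rfl hCN hB hA).2 ⟨1, fun _ ⟨u, hu, e⟩ => by
    rw [← e]; simpa using hu⟩
  have hc := hind.1
  obtain ⟨D', hD'⟩ := exists_isDefectGroup (p := p) hc
  rw [defectGroup_eq_of_induced hM hA hAC hCN hind hD'] at hD'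
  have hcov := (covers_iff C hB hc).2 fun χ hχ φ hφ m => by
    simpa using MemLocalIdeal.neg (hind.2.2 φ hφ χ hχ (m : G))
  obtain ⟨θ, hθ, lam, hlam, hone, hbij, hdeg⟩ := exists_lam hM hAC le_rfl hc hD'
  -- the characters over the members
  have hmemB : ∀ φ ∈ c, OverTh C (φ : C → ℂ) ⊆ B := fun φ hφ χ hχ =>
    mem_block_of_over hM hAp le_rfl hB hc hcov hφ hχ
  set S1 : Set (IrrCharacter G) := {χ | χ ∈ B ∧ ∀ a ∈ A, (χ : G → ℂ) a = (χ : G → ℂ) 1} with hS1
  have hS1le : 2 ≤ Nat.card S1 := hl2 ▸ blockRank_le_trivial A hM hAp hcomm hB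
  have hnt : ∀ φ ∈ c, φ ≠ θ → ∀ χ ∈ OverTh C (φ : C → ℂ), χ ∉ S1 := by
    intro φ hφ hne χ hχ h1
    obtain ⟨a, ha, hne'⟩ := not_trivial_of_over hAC (hlam φ) (mt (hone φ hφ).1 hne) hχ
    exact hne' (h1.2 a ha)
  have hS1θ : S1 ⊆ OverTh C (θ : C → ℂ) := by
    intro χ hχ
    obtain ⟨χ₀, hχ₀, φ₀, hφ₀, hc₀⟩ := hcov
    obtain ⟨ψ, hψ⟩ := exists_restrict_constituent χ.2 C
    obtain ⟨g, φ, hφ, hg⟩ := constituents_conjugate_blocks C hB hc hχ₀ hφ₀ hc₀ hχ.1 hψ
    have hχφ : χ ∈ OverTh C (φ : C → ℂ) := by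
      rw [mem_overTh, ← constituent_cjIrr C χ φ g,
        show (cjIrr C g φ : C → ℂ) = ψ from hg.symm]
      exact hψ
    by_cases hφθ : φ = θ
    · exact hφθ ▸ hχφ
    · exact absurd hχ (hnt φ hφ hφθ χ hχφ)
  have hne : ∀ φ : IrrCharacter C, 1 ≤ Nat.card (OverTh C (φ : C → ℂ)) := fun φ => by
    obtain ⟨χ, hχ⟩ := exists_over C φ
    haveI : Nonempty (OverTh C (φ : C → ℂ)) := ⟨⟨χ, hχ⟩⟩
    exact Nat.card_pos
  have hcount : ∀ φ ∈ c, φ ≠ θ → ∀ T : Set (IrrCharacter G), T ⊆ B → Disjoint S1 T →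
      OverTh C (φ : C → ℂ) ⊆ T → Nat.card S1 + Nat.card T ≤ 3 := by
    intro φ _ _ T hT hdis _
    rw [← Nat.card_sum, ← hk3]
    refine Nat.card_le_card_of_injective
      (Sum.elim (fun x : S1 => (⟨x.1, x.2.1⟩ : B)) fun x : T => (⟨x.1, hT x.2⟩ : B)) ?_
    rintro (⟨x, hx⟩ | ⟨x, hx⟩) (⟨y, hy⟩ | ⟨y, hy⟩) e <;>
      simp only [Sum.elim_inl, Sum.elim_inr, Subtype.mk.injEq] at e <;> subst e
    · rfl
    · exact (Set.disjoint_left.1 hdis hx hy).elim
    · exact (Set.disjoint_left.1 hdis hy hx).elim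
    · rfl
  have hover1 : ∀ φ ∈ c, φ ≠ θ → Nat.card (OverTh C (φ : C → ℂ)) = 1 ∧ Nat.card S1 = 2 := by
    intro φ hφ hne'
    have := hcount φ hφ hne' _ (hmemB φ hφ)
      (Set.disjoint_right.2 fun χ hχ => hnt φ hφ hne' χ hχ) subset_rfl
    have := hne φ
    omega
  -- transitivity
  have htrans : ∀ φ ∈ c, ∀ ψ ∈ c, φ ≠ θ → ψ ≠ θ →
      ∃ g ∈ inertia C (θ : C → ℂ), cjIrr C g φ = ψ := by
    intro φ hφ ψ hψ hφθ hψθ
    obtain ⟨χ, hχ⟩ := exists_over C φ
    obtain ⟨η, hη⟩ := exists_over C ψ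
    have := hcount φ hφ hφθ (OverTh C (φ : C → ℂ) ∪ OverTh C (ψ : C → ℂ))
      (Set.union_subset (hmemB φ hφ) (hmemB ψ hψ))
      (Set.disjoint_right.2 fun x hx => hx.elim (hnt φ hφ hφθ x) (hnt ψ hψ hψθ x))
      Set.subset_union_left
    obtain rfl : χ = η := by
      have hsub : Subsingleton ↥(OverTh C (φ : C → ℂ) ∪ OverTh C (ψ : C → ℂ)) :=
        Finite.card_le_one_iff_subsingleton.1 (by omega)
      exact congrArg Subtype.val (hsub.elim ⟨χ, Or.inl hχ⟩ ⟨η, Or.inr hη⟩)
    obtain ⟨g, hg⟩ := (mem_conjOrbit C).1 (restrict_constituent_conj C χ.2 φ.2 ψ.2 hχ hη)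
    have hgψ : cjIrr C g φ = ψ := Subtype.ext hg.symm
    refine ⟨g, ?_, hgψ⟩
    have hgθ : cjIrr C g θ ∈ c := cjIrr_mem_block hc hφ (hgψ ▸ hψ) hθ
    have : cjIrr C g θ = θ := (hone _ hgθ).1 (MonoidHom.ext fun a => Units.ext (by
      have h1 := hlam (cjIrr C g θ) a
      have h2 := hlam θ ⟨g * a * g⁻¹, (inferInstance : A.Normal).conj_mem a a.2 g⟩
      rw [(hone θ hθ).2 rfl, MonoidHom.one_apply, Units.val_one, one_mul] at h2
      have h4 : (cjIrr C g θ : C → ℂ) 1 = (θ : C → ℂ) 1 :=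
        congrArg (θ : C → ℂ) (Subtype.ext (by simp))
      have h5 : (cjIrr C g θ : C → ℂ) (Subgroup.inclusion hAC a) = (θ : C → ℂ) 1 := h2
      rw [h4, h5] at h1
      rw [MonoidHom.one_apply, Units.val_one]
      exact (mul_eq_right₀ (irr_one_ne_zero θ)).1 h1.symm))
    exact congrArg Subtype.val this
  -- the group of the inertia group
  let T := inertia C (θ : C → ℂ)
  have hCT : C ≤ T := le_inertia_irr θ
  haveI : Fintype T := Fintype.ofFinite _
  haveI : Fintype (C.subgroupOf T) := Fintype.ofFinite _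
  have hTc : ∀ t ∈ T, ∀ φ ∈ c, cjIrr C t φ ∈ c := fun t ht φ hφ =>
    cjIrr_mem_block hc hθ (by rw [show cjIrr C t θ = θ from Subtype.ext ht]; exact hθ) hφ
  have hequiv : ∀ (t : T) (φ : IrrCharacter C),
      lam (cjIrr C ((t : G)⁻¹) φ) = dualAct A T t (lam φ) := fun t φ => by
    refine MonoidHom.ext fun a => Units.ext ?_
    have h1 := hlam (cjIrr C ((t : G)⁻¹) φ) a
    have h2 := hlam φ (Char.conjHom A ((t : G)⁻¹) a)
    have h4 : (cjIrr C (t : G)⁻¹ φ : C → ℂ) 1 = (φ : C → ℂ) 1 :=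
      congrArg (φ : C → ℂ) (Subtype.ext (by simp))
    have h5 : (cjIrr C (t : G)⁻¹ φ : C → ℂ) (Subgroup.inclusion hAC a) =
        (φ : C → ℂ) (Subgroup.inclusion hAC (Char.conjHom A ((t : G)⁻¹) a)) := rfl
    rw [h4, h5, h2] at h1
    exact (mul_right_cancel₀ (irr_one_ne_zero φ) h1).symm
  letI : CommGroup A := { (inferInstance : Group A) with
    mul_comm := fun a b => Subtype.ext (hcomm a a.2 b b.2) }
  haveI : Finite (A →* ℂˣ) := inferInstance
  have hker : ∀ t : T, dualAct A T t = 1 ↔ (t : G) ∈ C := by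
    intro t
    constructor
    · intro h
      refine Subgroup.mem_centralizer_iff.2 fun a ha => ?_
      by_contra hne'
      have hne2 : Char.conjHom A (t : G)⁻¹ ⟨a, ha⟩ * (⟨a, ha⟩ : A)⁻¹ ≠ 1 := fun e => hne' (by
        have e1 : (t : G)⁻¹ * a * (t : G)⁻¹⁻¹ = a := congrArg Subtype.val (mul_inv_eq_one.1 e)
        calc a * (t : G) = (t : G) * ((t : G)⁻¹ * a * (t : G)⁻¹⁻¹) := by group
          _ = (t : G) * a := by rw [e1])
      obtain ⟨w, hw⟩ := CommGroup.exists_apply_ne_one_of_hasEnoughRootsOfUnity A ℂ hne2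
      have := DFunLike.congr_fun (DFunLike.congr_fun h w) ⟨a, ha⟩
      change w (Char.conjHom A (t : G)⁻¹ ⟨a, ha⟩) = w ⟨a, ha⟩ at this
      exact hw (by rw [map_mul, map_inv, this, mul_inv_cancel])
    · intro h
      refine MulEquiv.ext fun w => MonoidHom.ext fun a => congrArg w (Subtype.ext ?_)
      show (t : G)⁻¹ * a * (t : G)⁻¹⁻¹ = a
      rw [inv_inv, mul_assoc, Subgroup.mem_centralizer_iff.1 h a a.2, inv_mul_cancel_left]
  let ρ : T ⧸ C.subgroupOf T →* MulAut (A →* ℂˣ) :=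
    QuotientGroup.lift _ (dualAct A T) fun t ht => (hker t).2 ht
  have hρ : Function.Injective ρ := (injective_iff_map_eq_one ρ).2 fun x hx => by
    obtain ⟨t, rfl⟩ := QuotientGroup.mk_surjective x
    exact (QuotientGroup.eq_one_iff t).2 ((hker t).1 hx)
  have hW : Nat.card (A →* ℂˣ) = p ^ n :=
    (CommGroup.card_monoidHom_of_hasEnoughRootsOfUnity A ℂ).trans hn
  have hW4 : 4 ≤ Nat.card (A →* ℂˣ) := by rw [hW, ← hn]; omega
  have hpre : ∀ w : A →* ℂˣ, w ≠ 1 → ∃ φ ∈ c, φ ≠ θ ∧ lam φ = w := fun w hw => by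
    obtain ⟨φ, hφ, hφe⟩ := hbij.surjOn (Set.mem_univ w)
    exact ⟨φ, hφ, fun h => hw (by rw [← hφe, (hone φ hφ).2 h]), hφe⟩
  have htransW : ∀ v w : A →* ℂˣ, v ≠ 1 → w ≠ 1 → ∃ e, ρ e v = w := by
    intro v w hv hw
    obtain ⟨φ, hφ, hφθ, rfl⟩ := hpre v hv
    obtain ⟨ψ, hψ, hψθ, rfl⟩ := hpre w hw
    obtain ⟨g, hg, hgψ⟩ := htrans φ hφ ψ hψ hφθ hψθ
    refine ⟨((⟨g⁻¹, inv_mem hg⟩ : T) : T ⧸ C.subgroupOf T), ?_⟩
    show dualAct A T ⟨g⁻¹, inv_mem hg⟩ (lam φ) = lam ψ
    rw [← hequiv, ← hgψ]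
    simp
  -- two characters over `θ`
  haveI : Nontrivial (A →* ℂˣ) := Finite.one_lt_card_iff_nontrivial.1 (by omega)
  obtain ⟨w₀, hw₀⟩ := exists_ne (1 : A →* ℂˣ)
  obtain ⟨φ₀, hφ₀, hφ₀θ, -⟩ := hpre w₀ hw₀
  have hS1card : Nat.card S1 = 2 := (hover1 φ₀ hφ₀ hφ₀θ).2
  have hθover : Nat.card (OverTh C (θ : C → ℂ)) = 2 := by
    refine le_antisymm ?_ (hS1card ▸ Nat.card_mono (Set.toFinite _) hS1θ)
    have h3 := hk3
    by_contra hlt
    have hdis : Disjoint (OverTh C (θ : C → ℂ)) (OverTh C (φ₀ : C → ℂ)) := by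
      refine Set.disjoint_left.2 fun χ hχ hχ' => ?_
      obtain ⟨g, hg⟩ := (mem_conjOrbit C).1 (restrict_constituent_conj C χ.2 θ.2 φ₀.2 hχ hχ')
      have hgφ : cjIrr C g θ = φ₀ := Subtype.ext hg.symm
      refine hφ₀θ ((hone φ₀ hφ₀).1 (MonoidHom.ext fun a => Units.ext ?_))
      have h1 := hlam φ₀ a
      have h2 := hlam θ (Char.conjHom A g a)
      rw [(hone θ hθ).2 rfl, MonoidHom.one_apply, Units.val_one, one_mul] at h2
      have h4 : (cjIrr C g θ : C → ℂ) 1 = (θ : C → ℂ) 1 :=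
        congrArg (θ : C → ℂ) (Subtype.ext (by simp))
      have h5 : (cjIrr C g θ : C → ℂ) (Subgroup.inclusion hAC a) = (θ : C → ℂ) 1 := h2
      rw [← hgφ, h4, h5] at h1
      rw [← hgφ, MonoidHom.one_apply, Units.val_one]
      exact (mul_eq_right₀ (irr_one_ne_zero θ)).1 h1.symm
    have hle : Nat.card (OverTh C (θ : C → ℂ)) + Nat.card (OverTh C (φ₀ : C → ℂ)) ≤ Nat.card B := by
      rw [Nat.card_eq_fintype_card, Nat.card_eq_fintype_card, Nat.card_eq_fintype_card,
        ← Set.toFinset_card, ← Set.toFinset_card, ← Set.toFinset_card,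
        ← Finset.card_union_of_disjoint (Set.disjoint_toFinset.2 hdis), ← Set.toFinset_union]
      exact Finset.card_le_card (Set.toFinset_mono (Set.union_subset (hmemB θ hθ) (hmemB φ₀ hφ₀)))
    have := hne φ₀
    omega
  obtain ⟨hT2, hTdeg⟩ := card_over_inertia θ
  rw [hθover] at hT2
  -- heights
  have hdc : blockDefect p c = blockDefect p B := by
    have h1 := card_defectGroup hM hc hD'
    rw [Nat.card_congr (Subgroup.subgroupOfEquivOfLe hAC).toEquiv, card_defectGroup hM hB hA] at h1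
    exact (Nat.pow_right_injective hp.two_le h1).symm
  have hdle := blockDefect_le (p := p) c
  have hθv : (charDegree (θ : C → ℂ)).factorization p + blockDefect p B =
      (Nat.card C).factorization p := by
    obtain ⟨φ, hφ, e⟩ := exists_heightZero hM hc
    have h1 := (blockHeight_eq_zero_iff hM hc hφ).1 e
    rw [hdeg φ hφ] at h1
    omega
  have hBv : ∀ χ ∈ B, (charDegree (χ : G → ℂ)).factorization p + blockDefect p B =
      (Nat.card G).factorization p := fun χ hχ => by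
    have h1 := (blockHeight_eq_zero_iff hM hB hχ).1 ((reynolds hM hB hA).1 hcomm χ hχ)
    have := blockDefect_le (p := p) B
    omega
  obtain ⟨e, hemem, hedeg, hesum⟩ := over_mult (inInertia θ) (inInertia_invariant θ)
  obtain ⟨m, hm⟩ : ∃ m, (C.subgroupOf T).index = m := ⟨_, rfl⟩
  rw [hm] at hesum
  have hm0 : m ≠ 0 := hm ▸ Subgroup.index_ne_zero_of_finite
  have hev : ∀ ψ ∈ OverTh (C.subgroupOf T) (inInertia θ : C.subgroupOf T → ℂ),
      (e ψ).factorization p = m.factorization p := by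
    intro ψ hψ
    obtain ⟨χ, hχ, hχd⟩ := hTdeg ψ hψ
    have h1 := hBv χ (hmemB θ hθ hχ)
    rw [hχd, hedeg ψ hψ, charDegree_inInertia] at h1
    have he0 := (hemem ψ).1 hψ
    rw [Nat.factorization_mul Subgroup.index_ne_zero_of_finite
      (Nat.mul_ne_zero he0 (charDegree_pos θ).ne'), Nat.factorization_mul he0 (charDegree_pos θ).ne',
      Finsupp.add_apply, Finsupp.add_apply, ← C.card_mul_index,
      Nat.factorization_mul Nat.card_pos.ne' Subgroup.index_ne_zero_of_finite, Finsupp.add_apply,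
      ← Subgroup.relIndex_mul_index hCT,
      Nat.factorization_mul (show C.relIndex T ≠ 0 from Subgroup.index_ne_zero_of_finite)
        Subgroup.index_ne_zero_of_finite,
      Finsupp.add_apply] at h1
    rw [show inertia C (θ : C → ℂ) = T from rfl] at h1
    rw [← hm]
    change _ = (C.relIndex T).factorization p
    omega
  have hmp : m.factorization p = 0 := by
    have hd : p ^ (2 * m.factorization p) ∣ m := by
      conv_rhs => rw [← hesum]
      refine Finset.dvd_sum fun ψ hψ => ?_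
      rw [pow_mul', Nat.pow_dvd_pow_iff two_ne_zero,
        hp.pow_dvd_iff_le_factorization ((hemem ψ).1 (Set.mem_toFinset.1 hψ)),
        hev ψ (Set.mem_toFinset.1 hψ)]
    have := (hp.pow_dvd_iff_le_factorization hm0).1 hd
    omega
  have hpE : ¬ p ∣ Nat.card (T ⧸ C.subgroupOf T) := by
    rw [← Subgroup.index_eq_card, hm]
    exact fun h => (hp.factorization_pos_of_dvd hm0 h).ne' hmp
  by_cases hp2 : p = 2
  · -- two odd squares
    subst hp2
    have hodd : ∀ ψ ∈ OverTh (C.subgroupOf T) (inInertia θ : C.subgroupOf T → ℂ),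
        e ψ % 2 = 1 := fun ψ hψ => by
      have := hev ψ hψ
      rw [hmp, Nat.factorization_eq_zero_iff] at this
      rcases this with h | h | h
      · exact absurd Nat.prime_two h
      · omega
      · exact absurd h ((hemem ψ).1 hψ)
    have hmodd : m % 2 = 1 := by
      rw [Nat.factorization_eq_zero_iff] at hmp
      rcases hmp with h | h | h
      · exact absurd Nat.prime_two h
      · omega
      · exact absurd h hm0
    have hmod : m % 2 = Nat.card (OverTh (C.subgroupOf T)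
        (inInertia θ : C.subgroupOf T → ℂ)) % 2 := by
      rw [Nat.card_eq_fintype_card, ← Set.toFinset_card, Finset.card_eq_sum_ones,
        Finset.sum_nat_mod, ← hesum, Finset.sum_nat_mod]
      exact congrArg (· % 2) (Finset.sum_congr rfl fun ψ hψ => by
        rw [Nat.pow_mod, hodd ψ (Set.mem_toFinset.1 hψ)])
    rw [hT2] at hmod
    omega
  -- stabilisers
  have hst : ∀ w : A →* ℂˣ, w ≠ 1 → IsCyclic (stabW ρ w) → stabW ρ w = ⊥ := by
    intro w hw hcyc
    obtain ⟨φ, hφ, hφθ, rfl⟩ := hpre w hw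
    have hφT : inertia C (φ : C → ℂ) ≤ T := fun g hg => by
      have hgφ : cjIrr C g φ = φ := Subtype.ext hg
      have hgθ : cjIrr C g θ ∈ c := cjIrr_mem_block hc hφ (hgφ.symm ▸ hφ) hθ
      refine congrArg Subtype.val ((hone _ hgθ).1 (MonoidHom.ext fun a => Units.ext ?_))
      have h1 := hlam (cjIrr C g θ) a
      have h2 := hlam θ (Char.conjHom A g a)
      rw [(hone θ hθ).2 rfl, MonoidHom.one_apply, Units.val_one, one_mul] at h2
      have h4 : (cjIrr C g θ : C → ℂ) 1 = (θ : C → ℂ) 1 :=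
        congrArg (θ : C → ℂ) (Subtype.ext (by simp))
      have h5 : (cjIrr C g θ : C → ℂ) (Subgroup.inclusion hAC a) = (θ : C → ℂ) 1 := h2
      rw [h4, h5] at h1
      rw [MonoidHom.one_apply, Units.val_one]
      exact (mul_eq_right₀ (irr_one_ne_zero θ)).1 h1.symm
    let Tφ := inertia C (φ : C → ℂ)
    haveI : Fintype Tφ := Fintype.ofFinite _
    haveI : Fintype (C.subgroupOf Tφ) := Fintype.ofFinite _
    let f : Tφ →* T ⧸ C.subgroupOf T := (QuotientGroup.mk' _).comp (Subgroup.inclusion hφT)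
    have hfk : f.ker = C.subgroupOf Tφ := by
      ext x
      exact QuotientGroup.eq_one_iff _
    have hfr : f.range = stabW ρ (lam φ) := by
      ext x
      obtain ⟨t, rfl⟩ := QuotientGroup.mk_surjective x
      rw [mem_stabW]
      show (t : T ⧸ C.subgroupOf T) ∈ f.range ↔ dualAct A T t (lam φ) = lam φ
      rw [← hequiv]
      constructor
      · rintro ⟨s, hs⟩
        have h0 : (Subgroup.inclusion hφT s)⁻¹ * t ∈ C.subgroupOf T := QuotientGroup.eq.1 hs
        have h1 : (s : G)⁻¹ * t ∈ C := h0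
        have h2 : (t : G) ∈ Tφ := by
          have := mul_mem s.2 (le_inertia_irr φ h1)
          rwa [mul_inv_cancel_left] at this
        exact congrArg lam (Subtype.ext (inv_mem h2 : (t : G)⁻¹ ∈ inertia C (φ : C → ℂ)))
      · intro h
        have h1 : cjIrr C (t : G)⁻¹ φ = φ :=
          hbij.injOn (hTc _ (inv_mem t.2) φ hφ) hφ h
        have h2 : (t : G)⁻¹ ∈ Tφ := congrArg Subtype.val h1
        exact ⟨⟨t, by simpa using inv_mem h2⟩, rfl⟩
    let eq : Tφ ⧸ C.subgroupOf Tφ ≃* stabW ρ (lam φ) :=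
      ((QuotientGroup.quotientMulEquivOfEq hfk.symm).trans
        (QuotientGroup.quotientKerEquivRange f)).trans (MulEquiv.subgroupCongr hfr)
    haveI : IsCyclic (Tφ ⧸ C.subgroupOf Tφ) := isCyclic_of_injective eq.toMonoidHom eq.injective
    have h1 := card_over_of_cyclic (inInertia φ) (inInertia_invariant φ)
    rw [(card_over_inertia φ).1, (hover1 φ hφ hφθ).1, Subgroup.index_eq_card,
      Nat.card_congr eq.toEquiv] at h1
    exact Subgroup.eq_bot_of_card_eq _ h1.symm
  rcases orbit_cases ρ hp hp2 hW hW4 hρ hpE htransW hst with ⟨hcyc, h3⟩ | ⟨⟨e'⟩⟩ |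
    ⟨r, hr, hr2, hrd, hR⟩
  · have h1 := card_over_of_cyclic (inInertia θ) (inInertia_invariant θ)
    rw [hT2] at h1
    have h2 : (C.subgroupOf T).index = Nat.card (T ⧸ C.subgroupOf T) := Subgroup.index_eq_card _
    have h3' : 2 = (C.subgroupOf T).index := h1
    omega
  · have h1 := three_le_over_quaternion (inInertia θ) (inInertia_invariant θ) e'
    rw [hT2] at h1
    omega
  · haveI := Fact.mk hr
    have h1 := three_le_over_cyclic_sylow (inInertia θ) (inInertia_invariant θ) hr2 hrd hR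
    rw [hT2] at h1
    omega

end Cfsg.Agent.BlockThree
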