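import Cfsg.Agent.Lib.Char.Gallagher
import Cfsg.Agent.Lib.Blocks.Covering

/-!
# The characters over an invariant character of a normal subgroup
-/

set_option autoImplicit false
set_option linter.style.haveILetI false
set_option linter.unusedSectionVars false

namespace Cfsg.Agent.BlockThree

open Cfsg Cfsg.Agent Cfsg.Agent.Char

universe u

variable {X : Type u} [Group X] [Fintype X] (C : Subgroup X) [C.Normal] [Fintype C]

/-- The irreducible characters lying over `θ`. -/
def OverTh (θ : C → ℂ) : Set (IrrCharacter X) :=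
  {χ | classInner (fun c : C => (χ : X → ℂ) c) θ ≠ 0}

variable {C}

theorem mem_overTh {θ : C → ℂ} {χ : IrrCharacter X} :
    χ ∈ OverTh C θ ↔ classInner (fun c : C => (χ : X → ℂ) c) θ ≠ 0 := Iff.rfl

open scoped Classical in
/-- The multiplicities over an invariant character. -/
theorem over_mult (θ : IrrCharacter C) (hinv : ∀ g, conjChar C g (θ : C → ℂ) = θ) :
    ∃ e : IrrCharacter X → ℕ,
      (∀ χ, χ ∈ OverTh C (θ : C → ℂ) ↔ e χ ≠ 0) ∧
      (∀ χ ∈ OverTh C (θ : C → ℂ),
        charDegree (χ : X → ℂ) = e χ * charDegree (θ : C → ℂ)) ∧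
      ∑ χ ∈ (OverTh C (θ : C → ℂ)).toFinset, e χ ^ 2 = C.index := by
  obtain ⟨m, hm⟩ := IsCharacter.exists_decomp
    (isCharacter_indFun C (IsIrrCharacter.isCharacter θ.2))
  have hval : ∀ χ : IrrCharacter X,
      classInner (fun c : C => (χ : X → ℂ) c) (θ : C → ℂ) = (m χ : ℂ) := fun χ => by
    rw [← classInner_indFun_right C (θ : C → ℂ)
      (IsCharacter.isClassFunction (IsIrrCharacter.isCharacter χ.2)), ← classInner_conj_symm, hm,
      classInner_combination, map_natCast]
  have hmem : ∀ χ, χ ∈ OverTh C (θ : C → ℂ) ↔ m χ ≠ 0 := fun χ => by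
    rw [mem_overTh, hval, Nat.cast_ne_zero]
  refine ⟨m, hmem, fun χ hχ => ?_, ?_⟩
  · have h := clifford_degree C χ.2 θ.2 hχ
    have htop : inertia C (θ : C → ℂ) = ⊤ := eq_top_iff.2 fun g _ => hinv g
    rw [hval, htop, Subgroup.index_top, Nat.cast_one, mul_one, CharX.irr_deg, CharX.irr_deg] at h
    exact_mod_cast h
  · have h := classInner_indFun_invariant C θ.2 hinv
    rw [hm, classInner_combination₂] at h
    simp only [map_natCast] at h
    have h2 : ((∑ χ : IrrCharacter X, m χ ^ 2 : ℕ) : ℂ) = (C.index : ℂ) := by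
      rw [← h]
      push_cast
      simp only [pow_two]
    rw [Finset.sum_subset (Finset.subset_univ _)]
    · exact_mod_cast h2
    · intro χ _ hχ
      rw [Set.mem_toFinset, hmem, not_not] at hχ
      simp [hχ]

end Cfsg.Agent.BlockThree
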