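import Cfsg.Agent.Lib.BlockThree.Over
import Cfsg.Agent.Lib.RelMcKay.Triple

/-!
# An invariant character traded for a linear character of a central subgroup
-/

set_option autoImplicit false
set_option linter.style.haveILetI false
set_option linter.unusedSectionVars false

namespace Cfsg.Agent.BlockThree

open Cfsg Cfsg.Agent Cfsg.Agent.Char Cfsg.Agent.RelMcKay Cfsg.Agent.CharExtend

universe u

/-- The characters over a linear character of a subgroup. -/
def OverLin {G : Type u} [Group G] {Z : Subgroup G} (ε : Z →* ℂˣ) : Set (IrrCharacter G) :=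
  {χ | ∀ z : Z, (χ : G → ℂ) z = ε z * (χ : G → ℂ) 1}

variable {X : Type u} [Group X] [Fintype X] {C : Subgroup X} [C.Normal] [Fintype C]

theorem exists_triple (θ : IrrCharacter C) (hinv : ∀ g, conjChar C g (θ : C → ℂ) = θ) :
    ∃ (G : Type u) (_ : Group G) (_ : Finite G) (Z : Subgroup G) (ε : Z →* ℂˣ) (φ : G →* X ⧸ C),
      Z ≤ Subgroup.center G ∧ Function.Surjective φ ∧ φ.ker = Z ∧
      Nat.card (OverTh C (θ : C → ℂ)) = Nat.card (OverLin ε) := by
  classical
  obtain ⟨θf, d, σ, hσ, rfl⟩ := θ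
  haveI := hσ
  have hn : (⊤ : Subgroup X) ≤ Subgroup.normalizer (C : Set X) :=
    fun g _ => by rw [Subgroup.normalizer_eq_top C]; exact Subgroup.mem_top g
  have hν : ∀ h ∈ (⊤ : Subgroup X), InvBy C σ.character h := fun h _ k k' hk => by
    have h1 := congrFun (hinv h) k
    rw [show k' = ⟨h * k * h⁻¹, (inferInstance : C.Normal).conj_mem _ k.2 h⟩ from Subtype.ext hk]
    exact h1
  set E := cover σ ⊤ hn with hE
  haveI : Finite E := cover_finite σ hn
  let g : E →* X := (MonoidHom.fst _ _).comp E.subtype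
  have hg : Function.Surjective g := fun h => by
    obtain ⟨A, hA⟩ := cover_surjective σ hn hν (Subgroup.mem_top h)
    exact ⟨⟨_, hA⟩, rfl⟩
  let i : C →* E :=
    { toFun := fun l => ⟨((l : X), σ.toHomUnits l), Subgroup.mem_top _, inter_mem σ l, det_sigma σ l⟩
      map_one' := Subtype.ext (Prod.ext rfl (map_one σ.toHomUnits))
      map_mul' := fun a b => Subtype.ext (Prod.ext rfl (map_mul σ.toHomUnits a b)) }
  haveI hNn : i.range.Normal := ⟨by
    rintro _ ⟨l, rfl⟩ e
    refine ⟨cj (hn e.2.1) l, Subtype.ext (Prod.ext rfl ?_)⟩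
    show σ.toHomUnits (cj (hn e.2.1) l) = e.1.2 * σ.toHomUnits l * e.1.2⁻¹
    rw [e.2.2.1 l (cj (hn e.2.1) l) rfl, mul_inv_cancel_right]⟩
  let q : E →* E ⧸ i.range := QuotientGroup.mk' _
  have hq : Function.Surjective q := QuotientGroup.mk'_surjective _
  have hqi : ∀ e, q e = 1 ↔ e ∈ i.range := fun e => QuotientGroup.eq_one_iff e
  have hb : (⊥ : Subgroup X) ≤ Subgroup.normalizer (C : Set X) := bot_le
  set E₁ := cover σ ⊥ hb with hE₁
  haveI : Finite E₁ := cover_finite σ hb
  have hE₁E : E₁ ≤ E := fun e he => ⟨Subgroup.mem_top _, he.2⟩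
  choose zf hzf using fun e : E₁ => exists_scalar σ e.1.2 fun n => congrArg Units.val
    (e.2.2.1 n n (by rw [Subgroup.mem_bot.1 e.2.1]; simp))
  let ε₀ : E₁ →* ℂˣ := MonoidHom.mk' (fun e => (zf e)⁻¹) fun a b => by
    rw [← mul_inv, inv_inj]
    apply scalarUnit_injective' σ
    rw [map_mul, hzf, hzf, hzf]
    rfl
  let k : E₁ →* E := Subgroup.inclusion hE₁E
  have hker : ∀ e, g e = 1 ↔ e ∈ k.range := fun e => by
    refine ⟨fun he => ⟨⟨e.1, Subgroup.mem_bot.2 he, e.2.2⟩, rfl⟩, ?_⟩
    rintro ⟨z, rfl⟩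
    exact Subgroup.mem_bot.1 z.2.1
  have hcent : ∀ z, k z ∈ Subgroup.center E := fun z => Subgroup.mem_center_iff.2 fun e => by
    refine Subtype.ext (Prod.ext ?_ ?_)
    · show e.1.1 * z.1.1 = z.1.1 * e.1.1
      rw [Subgroup.mem_bot.1 z.2.1, mul_one, one_mul]
    · show e.1.2 * z.1.2 = z.1.2 * e.1.2
      rw [← hzf, scalarUnit_comm]
  let k₀ : E₁ →* E ⧸ i.range := q.comp k
  have hk₀ : Function.Injective k₀ := (injective_iff_map_eq_one _).2 fun e he => by
    obtain ⟨l, hl⟩ := (hqi _).1 he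
    have h1 : (l : X) = e.1.1 := congrArg (fun x : E => x.1.1) hl
    rw [Subgroup.mem_bot.1 e.2.1] at h1
    rw [show l = 1 from Subtype.ext h1, map_one] at hl
    exact Subtype.ext (congrArg (fun x : E => x.1) hl).symm
  set Z := k₀.range with hZ
  let eZ : E₁ ≃* Z := MonoidHom.ofInjective hk₀
  -- the map onto the quotient
  let f : E →* X ⧸ C := (QuotientGroup.mk' C).comp g
  have hf : i.range ≤ f.ker := by
    rintro _ ⟨l, rfl⟩
    exact (QuotientGroup.eq_one_iff _).2 l.2
  let φ : E ⧸ i.range →* X ⧸ C := QuotientGroup.lift _ f hf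
  have hφs : Function.Surjective φ := fun x => by
    obtain ⟨x, rfl⟩ := QuotientGroup.mk_surjective x
    obtain ⟨e, rfl⟩ := hg x
    exact ⟨q e, rfl⟩
  have hφk : φ.ker = Z := by
    ext x
    obtain ⟨e, rfl⟩ := hq x
    constructor
    · intro he
      let l : C := ⟨e.1.1, (QuotientGroup.eq_one_iff _).1 he⟩
      set e' := (i l)⁻¹ * e with he'
      obtain ⟨z, hz⟩ := (hker e').1 (inv_mul_cancel e.1.1)
      refine ⟨z, ?_⟩
      show q (k z) = q e
      rw [hz, he', map_mul, map_inv, (hqi _).2 ⟨l, rfl⟩, inv_one, one_mul]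
    · rintro ⟨z, hz⟩
      show φ (q e) = 1
      rw [← hz]
      show f (k z) = 1
      simp [f, (hker (k z)).2 ⟨z, rfl⟩]
  -- the count, for a prime above every degree
  let ρ : Representation ℂ E (Fin d → ℂ) :=
    (Units.coeHom _).comp ((MonoidHom.snd X _).comp E.subtype)
  obtain ⟨p, hpN, hp⟩ := Nat.exists_infinite_primes (Nat.card E + Nat.card X + 1)
  haveI := Fact.mk hp
  have hdeg : ∀ {Y : Type u} [Group Y] [Finite Y] (χ : IrrCharacter Y),
      Nat.card Y < p → ¬ p ∣ charDegree (χ : Y → ℂ) := by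
    intro Y _ _ χ hY hdvd
    haveI := Fintype.ofFinite Y
    exact absurd (Nat.le_of_dvd Nat.card_pos (hdvd.trans (Cfsg.Agent.CharX.irr_deg_dvd_card χ)))
      (by omega)
  have hQcard : Nat.card (E ⧸ i.range) ≤ Nat.card E := Nat.card_le_card_of_surjective q hq
  have hθd : ¬ p ∣ charDegree σ.character :=
    hdeg (⟨σ.character, isIrrCharacter_of_rep σ⟩ : IrrCharacter C)
      (lt_of_le_of_lt (Subgroup.card_le_card_group C) (by omega))
  have h := cnt_triple (p := p) C.subtype i g q k hg hq (fun l => rfl)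
    (fun a b hab => Subtype.ext (congrArg (fun x : E => x.1.1) hab)) hqi hker hcent ε₀ ρ.character
    (isCharacter_of_rep ρ) (isIrrCharacter_of_rep σ) (fun l => rfl) (fun e z => by
      show LinearMap.trace ℂ _ ((e.1.2 * z.1.2 : (Module.End ℂ (Fin d → ℂ))ˣ) :
        Module.End ℂ (Fin d → ℂ)) = ((((zf z)⁻¹)⁻¹ : ℂˣ) : ℂ) *
        LinearMap.trace ℂ _ (e.1.2 : Module.End ℂ (Fin d → ℂ))
      rw [inv_inv, ← hzf, Units.val_mul, scalarUnit_val, ← Module.End.one_eq_id, mul_smul_comm,
        mul_one, map_smul, smul_eq_mul]) hθd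
  refine ⟨E ⧸ i.range, inferInstance, inferInstance, Z, ε₀.comp eZ.symm.toMonoidHom, φ, ?_, hφs,
    hφk, ?_⟩
  · rintro _ ⟨z, rfl⟩
    refine Subgroup.mem_center_iff.2 fun x => ?_
    obtain ⟨e, rfl⟩ := hq x
    show q e * q (k z) = q (k z) * q e
    rw [← map_mul, Subgroup.mem_center_iff.1 (hcent z) e, map_mul]
  · have hcZ : ∀ z, k₀ z ∈ Subgroup.center (E ⧸ i.range) := fun z => by
      refine Subgroup.mem_center_iff.2 fun x => ?_
      obtain ⟨e, rfl⟩ := hq x
      show q e * q (k z) = q (k z) * q e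
      rw [← map_mul, Subgroup.mem_center_iff.1 (hcent z) e, map_mul]
    refine Eq.trans ?_ (h.trans ?_)
    · refine Nat.card_congr (Equiv.subtypeEquivRight fun χ => ?_)
      rw [and_iff_right (hdeg χ (by omega)), mem_overTh, lies_iff]
      rfl
    · refine Nat.card_congr (Equiv.subtypeEquivRight fun χ => ?_)
      rw [and_iff_right (hdeg χ (by omega))]
      obtain ⟨ω, hω⟩ := exists_central_hom k₀ hcZ χ.2
      rw [show q.comp k = k₀ from rfl, lies_central χ.2 hω]
      constructor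
      · rintro rfl z
        have h1 := hω (eZ.symm z) 1
        rw [one_mul] at h1
        rw [← show k₀ (eZ.symm z) = (z : E ⧸ i.range) from
          congrArg Subtype.val (eZ.apply_symm_apply z)]
        exact h1
      · intro hz
        refine MonoidHom.ext fun z => Units.ext ?_
        have h1 := hz (eZ z)
        have h2 := hω z 1
        rw [one_mul] at h2
        rw [show ((eZ z : Z) : E ⧸ i.range) = k₀ z from rfl, h2] at h1
        simp only [MonoidHom.comp_apply, MulEquiv.coe_toMonoidHom, eZ.symm_apply_apply] at h1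
        exact mul_right_cancel₀ (IsIrrCharacter.one_ne_zero χ.2) h1

end Cfsg.Agent.BlockThree
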