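import Cfsg.Agent.Lib.BlockThree.Triple
import Cfsg.Agent.Lib.BrauerPairs.SmallDefect
import Cfsg.Agent.Lib.Blocks.Reynolds
import Cfsg.Agent.Lib.Blocks.Quotient
import Cfsg.Agent.Lib.Char.ChiefRestrict
import Cfsg.Agent.Lib.Char.GlaubermanMod
import Mathlib.GroupTheory.Transfer
import Mathlib.GroupTheory.Abelianization.Defs
import Mathlib.GroupTheory.FiniteAbelian.Duality
import Mathlib.GroupTheory.SpecificGroups.Quaternion

/-!
# Lower bounds for the number of characters over an invariant character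

If `X/C` is cyclic, there are as many characters over an invariant `θ` as elements in `X/C`; if
`X/C` is quaternion of order eight, or has a nontrivial cyclic Sylow subgroup for an odd prime,
there are at least three.
-/

set_option autoImplicit false
set_option linter.style.haveILetI false
set_option linter.unusedSectionVars false

namespace Cfsg.Agent.BlockThree

open Cfsg Cfsg.Agent Cfsg.Agent.Char Cfsg.Agent.Blocks Cfsg.Agent.BrauerPairs
  Cfsg.Agent.RelMcKay

universe u

section central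

variable {G : Type u} [Group G] [Fintype G] {Z : Subgroup G} (hZ : Z ≤ Subgroup.center G)
  (ε : Z →* ℂˣ)

include hZ

open scoped Classical in
/-- The degrees over a linear character of a central subgroup. -/
theorem sum_sq_overLin :
    ∑ χ ∈ (OverLin ε).toFinset, charDegree (χ : G → ℂ) ^ 2 = Z.index := by
  haveI : Z.Normal := ⟨fun z hz g => by
    rw [Subgroup.mem_center_iff.1 (hZ hz) g, mul_inv_cancel_right]; exact hz⟩
  haveI := Fintype.ofFinite Z
  let θ : IrrCharacter Z := ⟨fun z => (ε z : ℂ), isIrrCharacter_linear ε⟩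
  obtain ⟨e, -, hdeg, hsum⟩ := over_mult θ fun g => funext fun z => by
    show (ε _ : ℂ) = ε z
    congr 2
    refine Subtype.ext ?_
    show g * (z : G) * g⁻¹ = z
    rw [Subgroup.mem_center_iff.1 (hZ z.2) g, mul_inv_cancel_right]
  have hset : OverTh Z (θ : Z → ℂ) = OverLin ε := by
    ext χ
    obtain ⟨ω, hω⟩ := exists_central_hom Z.subtype (fun z => hZ z.2) χ.2
    rw [mem_overTh]
    refine Iff.trans (lies_iff (ι := Z.subtype) (χ := (χ : G → ℂ))).symm ?_
    rw [lies_central χ.2 hω]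
    constructor
    · rintro rfl z
      simpa using hω z 1
    · intro hz
      refine MonoidHom.ext fun z => Units.ext ?_
      have h1 := hω z 1
      rw [one_mul, show Z.subtype z = (z : G) from rfl, hz z] at h1
      exact (mul_right_cancel₀ (IsIrrCharacter.one_ne_zero χ.2) h1).symm
  have hθ1 : charDegree (θ : Z → ℂ) = 1 := by simp [θ, charDegree]
  rw [← hsum]
  refine Finset.sum_congr (by simp only [hset]) fun χ hχ => ?_
  rw [hdeg χ (by rw [hset]; exact Set.mem_toFinset.1 (by convert hχ using 2; simp [hset])),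
    hθ1, mul_one]

theorem card_overLin_of_cyclic {Q : Type*} [Group Q] [IsCyclic Q] (f : G →* Q) (hf : f.ker = Z) :
    Nat.card (OverLin ε) = Z.index := by
  classical
  have hcomm := (f.isMulCommutative_of_isCyclic_of_ker_le_center (hf ▸ hZ)).is_comm.comm
  rw [← sum_sq_overLin hZ ε, Finset.sum_congr rfl (g := fun _ => 1) fun χ _ => by
    rw [charDegree_eq_one_of_comm hcomm χ, one_pow], Finset.sum_const, smul_eq_mul, mul_one,
    Nat.card_eq_fintype_card, Set.toFinset_card]

omit hZ in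
/-- A linear character of a subgroup meeting the derived subgroup trivially extends. -/
theorem exists_linear_extension {Y : Subgroup G} (l : Y →* ℂˣ) (h : Y ⊓ commutator G = ⊥) :
    ∃ L : G →* ℂˣ, ∀ y : Y, L y = l y := by
  let f : Y →* Abelianization G := Abelianization.of.comp Y.subtype
  have hf : Function.Injective f := (injective_iff_map_eq_one f).2 fun y hy => Subtype.ext <| by
    have h1 : (y : G) ∈ Y ⊓ commutator G := ⟨y.2, (QuotientGroup.eq_one_iff _).1 hy⟩
    rwa [h, Subgroup.mem_bot] at h1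
  let e := MonoidHom.ofInjective hf
  obtain ⟨L, hL⟩ := MonoidHom.domRestrict_surjective ℂ f.range (l.comp e.symm.toMonoidHom)
  refine ⟨L.comp Abelianization.of, fun y => ?_⟩
  have h1 := DFunLike.congr_fun hL (e y)
  show L (f y) = l y
  simpa [e, MonoidHom.ofInjective_apply] using h1

theorem three_le_overLin_quaternion (f : G →* QuaternionGroup 2) (hfs : Function.Surjective f)
    (hf : f.ker = Z) : 3 ≤ Nat.card (OverLin ε) := by
  classical
  obtain ⟨a, ha⟩ := hfs (QuaternionGroup.a 1)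
  obtain ⟨b, hb⟩ := hfs (QuaternionGroup.xa 0)
  have hmem : ∀ g : G, f g = 1 ↔ g ∈ Z := fun g => by rw [← hf]; rfl
  have hc : ∀ g ∈ Z, ∀ h : G, Commute h g := fun g hg h => Subgroup.mem_center_iff.1 (hZ hg) h
  -- generation
  have hgen : ∀ K : Subgroup G, Z ≤ K → a ∈ K → b ∈ K → K = ⊤ := by
    intro K hZK haK hbK
    refine eq_top_iff.2 fun g _ => ?_
    have hQ : ∀ x : QuaternionGroup 2, ∃ i : Fin 4, ∃ j : Fin 2,
        x = QuaternionGroup.xa 0 ^ (j : ℕ) * QuaternionGroup.a 1 ^ (i : ℕ) := by decide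
    obtain ⟨i, j, hij⟩ := hQ (f g)
    have hz : (b ^ (j : ℕ) * a ^ (i : ℕ))⁻¹ * g ∈ Z := by
      rw [← hmem, map_mul, map_inv, map_mul, map_pow, map_pow, ha, hb, hij, inv_mul_cancel]
    have := K.mul_mem (K.mul_mem (pow_mem hbK (j : ℕ)) (pow_mem haK (i : ℕ))) (hZK hz)
    rwa [mul_inv_cancel_left] at this
  set z := b * a * b⁻¹ * a with hz
  have hzZ : z ∈ Z := by
    rw [← hmem, hz, map_mul, map_mul, map_mul, map_inv, ha, hb]
    decide
  set w := (b ^ 2)⁻¹ * a ^ 2 with hw
  have hwZ : w ∈ Z := by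
    rw [← hmem, hw, map_mul, map_inv, map_pow, map_pow, ha, hb]
    decide
  have hba : b * a * b⁻¹ = z * a⁻¹ := by rw [hz]; group
  have ha2b : b * a ^ 2 * b⁻¹ = a ^ 2 := by
    rw [show a ^ 2 = b ^ 2 * w by rw [hw]; group, mul_inv_eq_iff_eq_mul]
    exact (((Commute.refl b).pow_right 2).mul_right (hc w hwZ b)).eq
  have hz2 : z ^ 2 = a ^ 4 := by
    have h1 : b * a ^ 2 * b⁻¹ = z ^ 2 * (a⁻¹) ^ 2 := by
      rw [← conj_pow, hba, (hc z hzZ a⁻¹).symm.mul_pow]
    rw [ha2b] at h1
    calc z ^ 2 = z ^ 2 * (a⁻¹) ^ 2 * a ^ 2 := by group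
      _ = a ^ 4 := by rw [← h1, ← pow_add]
  have ha2c : a ^ 2 ∈ Subgroup.center G := by
    rw [← Subgroup.centralizer_univ, Subgroup.mem_centralizer_iff]
    intro g _
    have := hgen (Subgroup.centralizer ({a ^ 2} : Set G))
      (fun x hx => Subgroup.mem_centralizer_singleton_iff.2 (hc x hx (a ^ 2)).eq.symm)
      (Subgroup.mem_centralizer_singleton_iff.2 ((Commute.refl a).pow_right 2).eq)
      (Subgroup.mem_centralizer_singleton_iff.2 (mul_inv_eq_iff_eq_mul.1 ha2b))
    exact Subgroup.mem_centralizer_singleton_iff.1 (this ▸ Subgroup.mem_top g)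
  set c := b * a * b⁻¹ * a⁻¹ with hcdef
  have hc2 : c = z * (a ^ 2)⁻¹ := by rw [hcdef, hba]; group
  have hcc : c ∈ Subgroup.center G := hc2 ▸ mul_mem (hZ hzZ) (inv_mem ha2c)
  have hcsq : c ^ 2 = 1 := by
    rw [hc2, (hc z hzZ (a ^ 2)⁻¹).symm.mul_pow, hz2]
    group
  have hcne : c ∉ Z := by
    rw [← hmem, hcdef, map_mul, map_mul, map_mul, map_inv, map_inv, ha, hb]
    decide
  set N := Subgroup.zpowers c with hN
  haveI : N.Normal := ⟨fun x hx g => by
    rw [Subgroup.mem_center_iff.1 (Subgroup.zpowers_le.2 hcc hx) g, mul_inv_cancel_right]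
    exact hx⟩
  have hab : Commute (a : G ⧸ N) (b : G ⧸ N) := by
    show ((a * b : G) : G ⧸ N) = ((b * a : G) : G ⧸ N)
    refine QuotientGroup.eq.2 ?_
    have h1 : (a * b)⁻¹ * (b * a) = (a * b)⁻¹ * c * (a * b) := by rw [hcdef]; group
    rw [h1, mul_assoc, ← Subgroup.mem_center_iff.1 hcc (a * b), inv_mul_cancel_left]
    exact Subgroup.mem_zpowers c
  have hcomm : commutator G ≤ N := by
    have key : ∀ (K : Subgroup G) (x : G), K =
        (Subgroup.centralizer ({(x : G ⧸ N)} : Set (G ⧸ N))).comap (QuotientGroup.mk' N) →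
        Z ≤ K := fun K x hK y hy => by
      rw [hK, Subgroup.mem_comap, Subgroup.mem_centralizer_singleton_iff]
      exact ((hc y hy x).map (QuotientGroup.mk' N)).eq.symm
    have hA := hgen _ (key _ a rfl) (by simp [Subgroup.mem_centralizer_singleton_iff])
      (by simpa [Subgroup.mem_centralizer_singleton_iff] using hab.eq.symm)
    have hB := hgen _ (key _ b rfl)
      (by simpa [Subgroup.mem_centralizer_singleton_iff] using hab.eq)
      (by simp [Subgroup.mem_centralizer_singleton_iff])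
    have hall : ∀ x g : G, Commute (g : G ⧸ N) (x : G ⧸ N) := fun x => by
      have h1 := hgen _ (key _ x rfl)
        (by
          have := (hA ▸ Subgroup.mem_top x : x ∈ _)
          simp only [Subgroup.mem_comap, Subgroup.mem_centralizer_singleton_iff] at this ⊢
          exact this.symm)
        (by
          have := (hB ▸ Subgroup.mem_top x : x ∈ _)
          simp only [Subgroup.mem_comap, Subgroup.mem_centralizer_singleton_iff] at this ⊢
          exact this.symm)
      exact fun g => (Subgroup.mem_centralizer_singleton_iff.1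
        (Subgroup.mem_comap.1 (h1 ▸ Subgroup.mem_top g)))
    rw [commutator_def, Subgroup.commutator_le]
    intro g _ h _
    rw [← QuotientGroup.eq_one_iff]
    show ((g * h * g⁻¹ * h⁻¹ : G) : G ⧸ N) = 1
    simp only [QuotientGroup.mk_mul, QuotientGroup.mk_inv, (hall h g).eq, mul_inv_cancel_right,
      mul_inv_cancel]
  have hinf : Z ⊓ commutator G = ⊥ := by
    refine (Subgroup.eq_bot_iff_forall _).2 fun x hx => ?_
    obtain ⟨i, rfl⟩ := Subgroup.mem_zpowers_iff.1 (hcomm hx.2)
    rcases Int.even_or_odd' i with ⟨j, rfl | rfl⟩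
    · rw [zpow_mul, zpow_ofNat, hcsq, one_zpow]
    · refine absurd ?_ hcne
      have := hx.1
      rwa [zpow_add_one, zpow_mul, zpow_ofNat, hcsq, one_zpow, one_mul] at this
  obtain ⟨L, hL⟩ := exists_linear_extension ε hinf
  let χ₀ : IrrCharacter G := ⟨fun g => (L g : ℂ), isIrrCharacter_linear L⟩
  have h0 : χ₀ ∈ OverLin ε := fun z => by simp [χ₀, hL]
  have hd0 : charDegree (χ₀ : G → ℂ) = 1 := by simp [χ₀, charDegree]
  have hsum := sum_sq_overLin hZ ε
  have hidx : Z.index = 8 := by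
    rw [← hf, Subgroup.index_ker, MonoidHom.range_eq_top.2 hfs, Subgroup.card_top,
      Nat.card_eq_fintype_card]
    rfl
  rw [hidx, ← Finset.add_sum_erase _ _ (Set.mem_toFinset.2 h0), hd0] at hsum
  by_contra hlt
  rw [not_le, Nat.card_eq_fintype_card, ← Set.toFinset_card,
    ← Finset.card_erase_add_one (Set.mem_toFinset.2 h0)] at hlt
  rcases Nat.lt_or_ge ((OverLin ε).toFinset.erase χ₀).card 1 with h1 | h1
  · rw [Finset.card_eq_zero.1 (Nat.lt_one_iff.1 h1), Finset.sum_empty] at hsum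
    omega
  · obtain ⟨η, hη⟩ := Finset.card_eq_one.1
      (show ((OverLin ε).toFinset.erase χ₀).card = 1 by omega)
    rw [hη, Finset.sum_singleton] at hsum
    have h7 : charDegree (η : G → ℂ) < 3 := by
      by_contra h3
      have := Nat.pow_le_pow_left (show 3 ≤ charDegree (η : G → ℂ) by omega) 2
      omega
    interval_cases h : charDegree (η : G → ℂ) <;> omega

end central

section block

variable {G : Type u} [Group G] [Fintype G] {r : ℕ} {M : Ideal AlgInt} [M.IsPrime]

/-- Roots of unity of order prime to `r` congruent modulo `M` are equal. -/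
theorem root_eq_of_congr (hM : IsPModular r M) {n : ℕ} (hn0 : n ≠ 0) (hn : ¬ r ∣ n) {x y : ℂ}
    (hx : x ^ n = 1) (hy : y ^ n = 1) (h : MemLocalIdeal M (x - y)) : x = y := by
  have hy0 : y ≠ 0 := fun e => by simp [e, zero_pow hn0] at hy
  by_contra hne
  set ζ := x / y with hζ
  have hζn : ζ ^ n = 1 := by rw [hζ, div_pow, hx, hy, div_one]
  have hζ1 : ζ ≠ 1 := fun e => hne ((div_eq_one_iff_eq hy0).1 e)
  have hint : ∀ i : ℕ, IsIntegral ℤ (ζ ^ i) := fun i =>
    (IsIntegral.of_pow (Nat.pos_of_ne_zero hn0) (hζn.symm ▸ isIntegral_one)).pow i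
  have hd : MemLocalIdeal M (ζ - 1) := by
    have e : ζ - 1 = (x - y) * y⁻¹ := by rw [hζ]; field_simp
    rw [e]
    exact MemLocalIdeal.mul_right h (mem_locRing_of_isIntegral
      (IsIntegral.of_pow (Nat.pos_of_ne_zero hn0) (by rw [inv_pow, hy, inv_one]; exact isIntegral_one)))
  have hs : ∑ i ∈ Finset.range n, ζ ^ i = 0 := by
    rw [geom_sum_eq hζ1, hζn, sub_self, zero_div]
  have hmem : MemLocalIdeal M (∑ i ∈ Finset.range n, (1 - ζ ^ i)) := by
    refine memLocalIdeal_sum _ _ fun i _ => ?_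
    rw [show 1 - ζ ^ i = -(∑ j ∈ Finset.range i, ζ ^ j) * (ζ - 1) by
      rw [neg_mul, geom_sum_mul, neg_sub]]
    exact MemLocalIdeal.mul_left
      (mem_locRing_of_isIntegral ((IsIntegral.sum _ fun j _ => hint j).neg)) hd
  rw [Finset.sum_sub_distrib, hs, sub_zero, Finset.sum_const, Finset.card_range, nsmul_eq_mul,
    mul_one, natCast_memLocalIdeal_iff hM] at hmem
  exact hn hmem

/-- A block over a character of an `r'`-central subgroup, `r` odd, with few characters. -/
theorem factorization_le_of_few (hM : IsPModular r M) (hr : r ≠ 2) {Z : Subgroup G}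
    (hZ : Z ≤ Subgroup.center G) (hZr : ¬ r ∣ Nat.card Z) (ε : Z →* ℂˣ)
    (hfew : Nat.card (OverLin ε) ≤ 2) {χ : IrrCharacter G} (hχ : χ ∈ OverLin ε) :
    (Nat.card G).factorization r ≤ (charDegree (χ : G → ℂ)).factorization r := by
  classical
  haveI := Fact.mk hM.1
  set B := blockOf M (χ : G → ℂ)
  have hB : IsPBlock M B := isPBlock_blockOf χ
  have hsub : B ⊆ OverLin ε := by
    intro η hη z
    obtain ⟨ω, hω⟩ := exists_central_hom Z.subtype (fun z => hZ z.2) η.2
    have hval : ∀ (φ : IrrCharacter G) (c : ℂ), (φ : G → ℂ) z = c * (φ : G → ℂ) 1 →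
        centralChar (φ : G → ℂ) z = c := fun φ c hc => by
      have hi : (Subgroup.centralizer ({(z : G)} : Set G)).index = 1 :=
        Subgroup.index_eq_one.2 (eq_top_iff.2 fun g _ => Subgroup.mem_centralizer_singleton_iff.2
          (Subgroup.mem_center_iff.1 (hZ z.2) g))
      rw [centralChar, hi, Nat.cast_one, one_mul, hc, mul_div_cancel_right₀ _ (irr_one_ne_zero φ)]
    have h1 : (η : G → ℂ) z = ω z * (η : G → ℂ) 1 := by simpa using hω z 1
    have hc := (mem_blockOf.1 hη) (z : G)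
    rw [hval χ _ (hχ z), hval η _ h1] at hc
    have hpow : ∀ l : Z →* ℂˣ, (l z : ℂ) ^ Nat.card Z = 1 := fun l => by
      rw [← Units.val_pow_eq_pow_val, ← map_pow, pow_card_eq_one', map_one, Units.val_one]
    rw [h1, root_eq_of_congr hM Nat.card_pos.ne' hZr (hpow ε) (hpow ω) hc]
  have hk : Nat.card B ≤ 2 := (Nat.card_mono (Set.toFinite _) hsub).trans hfew
  have hd : blockDefect r B = 0 := by
    obtain ⟨hle, -, hfull⟩ := rank_full_iff hM hB
    have h1 := one_le_blockRank hM hB
    by_contra hd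
    have hne : Nat.card B ≠ blockRank r B := fun e => hd (hfull.2 e)
    obtain ⟨P, hP⟩ := exists_isDefectGroup (p := r) hB
    have h2 := (card_two_iff hM hB hP).1 (by omega)
    rw [card_defectGroup hM hB hP] at h2
    have h3 : r ∣ 2 := h2 ▸ dvd_pow_self r hd
    exact hr ((Nat.prime_dvd_prime_iff_eq hM.1 Nat.prime_two).1 h3)
  have := degExp_ge hM hB (self_mem_blockOf (M := M) χ)
  omega

end block

section twist

variable {G : Type u} [Group G] [Fintype G] {Z : Subgroup G} (hZ : Z ≤ Subgroup.center G)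
  (ε : Z →* ℂˣ) {r : ℕ} [Fact r.Prime]

include hZ

theorem three_le_overLin_cyclic_sylow {Q : Type*} [Group Q] [Finite Q] (f : G →* Q)
    (hfs : Function.Surjective f) (hf : f.ker = Z) (hr : r ≠ 2) (hdvd : r ∣ Nat.card Q)
    (hcyc : ∀ R : Sylow r Q, IsCyclic R) : 3 ≤ Nat.card (OverLin ε) := by
  classical
  by_contra hlt
  have hr' : r.Prime := Fact.out
  obtain ⟨M, hM⟩ := Cfsg.Agent.GlaubermanMod.exists_isPModular r
  haveI := IsPModular.isPrime hM
  -- an abelian Sylow subgroup
  obtain ⟨R⟩ : Nonempty (Sylow r G) := inferInstance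
  obtain ⟨S, hS⟩ := (R.isPGroup'.map f).exists_le_sylow
  haveI := hcyc S
  let g : R →* S := (f.comp (R : Subgroup G).subtype).codRestrict (S : Subgroup Q) fun x =>
    hS ⟨x, x.2, rfl⟩
  have hRc : ∀ a b : R, a * b = b * a := (g.isMulCommutative_of_isCyclic_of_ker_le_center fun x hx => by
    have hxZ : (x : G) ∈ Z := hf ▸ (congrArg Subtype.val hx : f x = 1)
    exact Subgroup.mem_center_iff.2 fun y => Subtype.ext (Subgroup.mem_center_iff.1 (hZ hxZ) y)).is_comm.comm
  -- the `r`-part of the centre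
  obtain ⟨S₀⟩ : Nonempty (Sylow r Z) := inferInstance
  set Zr : Subgroup G := (S₀ : Subgroup Z).map Z.subtype with hZrdef
  have hZrZ : Zr ≤ Z := Subgroup.map_subtype_le _
  haveI : Zr.Normal := ⟨fun x hx y => by
    rw [Subgroup.mem_center_iff.1 (hZ (hZrZ hx)) y, mul_inv_cancel_right]; exact hx⟩
  have hZrp : IsPGroup r Zr := S₀.isPGroup'.map _
  have hinf : Zr ⊓ commutator G = ⊥ := by
    refine (Subgroup.eq_bot_iff_forall _).2 fun x hx => ?_
    letI : CommGroup R := { (inferInstance : Group R) with mul_comm := hRc }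
    have h1 : MonoidHom.transfer (MonoidHom.id R) x = 1 :=
      Abelianization.commutator_subset_ker _ hx.2
    rw [MonoidHom.transfer_eq_pow _ x fun k g₀ _ => by
      rw [mul_assoc, ← Subgroup.mem_center_iff.1 (pow_mem (hZ (hZrZ hx.1)) k) g₀,
        inv_mul_cancel_left]] at h1
    have h2 : x ^ (R : Subgroup G).index = 1 := congrArg Subtype.val h1
    obtain ⟨j, hj⟩ := IsPGroup.iff_orderOf.1 hZrp ⟨x, hx.1⟩
    rw [Subgroup.orderOf_mk] at hj
    rw [← orderOf_eq_one_iff]
    exact Nat.eq_one_of_dvd_coprimes ((hr'.coprime_iff_not_dvd.2 R.not_dvd_index).pow_left j)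
      (hj ▸ dvd_rfl) (orderOf_dvd_of_pow_eq_one h2)
  obtain ⟨L, hL⟩ := exists_linear_extension (ε.comp (Subgroup.inclusion hZrZ)) hinf
  -- the quotient
  let π : G →* G ⧸ Zr := QuotientGroup.mk' Zr
  set Z₁ := Z.map π with hZ₁
  have hZ₁c : Z₁ ≤ Subgroup.center (G ⧸ Zr) := by
    rintro _ ⟨z, hz, rfl⟩
    refine Subgroup.mem_center_iff.2 fun y => ?_
    obtain ⟨y, rfl⟩ := QuotientGroup.mk_surjective y
    show π y * π z = π z * π y
    rw [← map_mul, Subgroup.mem_center_iff.1 (hZ hz) y, map_mul]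
  let π₁ : Z →* Z₁ := π.subgroupMap Z
  let ε' : Z →* ℂˣ := ε * (L.comp Z.subtype)⁻¹
  have hker : π₁.ker ≤ ε'.ker := fun z hz => by
    have h1 : (z : G) ∈ Zr := (QuotientGroup.eq_one_iff _).1 (congrArg Subtype.val hz)
    have h2 : L z = ε z := hL ⟨z, h1⟩
    show ε z * (L z)⁻¹ = 1
    rw [h2, mul_inv_cancel]
  let ε₁ : Z₁ →* ℂˣ := π₁.liftOfSurjective (π.subgroupMap_surjective Z) ⟨ε', hker⟩
  have hε₁ : ∀ z : Z, ε₁ (π₁ z) = ε z * (L z)⁻¹ := fun z =>
    MonoidHom.liftOfRightInverse_comp_apply _ _ _ ⟨ε', hker⟩ z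
  have hfew : Nat.card (OverLin ε₁) ≤ 2 := by
    have hmem : ∀ χ : IrrCharacter (G ⧸ Zr), χ ∈ OverLin ε₁ →
        (⟨fun x => (L x : ℂ) * (χ : G ⧸ Zr → ℂ) (π x), Cfsg.Agent.Char.ChiefRestrict.isIrr_mul_linear
          (IsIrrCharacter.comp χ.2 π (QuotientGroup.mk'_surjective Zr)) L⟩ : IrrCharacter G) ∈
          OverLin ε := fun χ hχ z => by
      show (L z : ℂ) * (χ : G ⧸ Zr → ℂ) (π z) = ε z * ((L 1 : ℂˣ) * (χ : G ⧸ Zr → ℂ) (π 1))
      rw [map_one π, map_one L, show π (z : G) = (π₁ z : G ⧸ Zr) from rfl, hχ, hε₁,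
        Units.val_mul, Units.val_one, one_mul, Units.val_inv_eq_inv_val]
      field_simp
    refine le_trans (Nat.card_le_card_of_injective
      (fun χ : OverLin ε₁ => (⟨_, hmem χ.1 χ.2⟩ : OverLin ε)) fun χ η h => ?_)
      (Nat.le_of_lt_succ (not_le.1 hlt))
    refine Subtype.ext (Subtype.ext (funext fun y => ?_))
    obtain ⟨y, rfl⟩ := QuotientGroup.mk'_surjective Zr y
    exact mul_left_cancel₀ (L y).ne_zero
      (congrFun (congrArg (fun t : OverLin ε => ((t : IrrCharacter G) : G → ℂ)) h) y)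
  have hZ₁r : ¬ r ∣ Nat.card Z₁ := by
    have hk : π₁.ker = (S₀ : Subgroup Z) := by
      ext z
      show π₁ z = 1 ↔ _
      rw [Subtype.ext_iff]
      show (π z : G ⧸ Zr) = 1 ↔ _
      rw [QuotientGroup.mk'_apply, QuotientGroup.eq_one_iff, hZrdef]
      exact ⟨fun ⟨y, hy, e⟩ => (Subtype.ext e : y = z) ▸ hy, fun h => ⟨z, h, rfl⟩⟩
    have h := S₀.not_dvd_index
    rwa [← hk, Subgroup.index_ker, MonoidHom.range_eq_top.2 (π.subgroupMap_surjective Z),
      Subgroup.card_top] at h
  have hidx : Z₁.index = Z.index :=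
    Subgroup.index_map_eq _ (QuotientGroup.mk'_surjective Zr) (by rwa [QuotientGroup.ker_mk'])
  have hQ : Z.index = Nat.card Q := by
    rw [← hf, Subgroup.index_ker, MonoidHom.range_eq_top.2 hfs, Subgroup.card_top]
  haveI : Fintype (G ⧸ Zr) := Fintype.ofFinite _
  set c := (Z₁.index).factorization r with hc
  have hc0 : 0 < c := by
    rw [hc, hidx, hQ]
    exact hr'.factorization_pos_of_dvd Nat.card_pos.ne' hdvd
  have hsum := sum_sq_overLin hZ₁c ε₁
  have hdvd' : r ^ (2 * c) ∣ Z₁.index := by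
    rw [← hsum]
    refine Finset.dvd_sum fun χ hχ => ?_
    rw [pow_mul', Nat.pow_dvd_pow_iff two_ne_zero,
      hr'.pow_dvd_iff_le_factorization (charDegree_pos χ).ne']
    refine le_trans ?_ (factorization_le_of_few hM hr hZ₁c hZ₁r ε₁ hfew (Set.mem_toFinset.1 hχ))
    rw [hc, ← Subgroup.index_mul_card Z₁, Nat.factorization_mul Subgroup.index_ne_zero_of_finite
      Nat.card_pos.ne', Finsupp.add_apply]
    omega
  have := (hr'.pow_dvd_iff_le_factorization Subgroup.index_ne_zero_of_finite).1 hdvd'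
  omega

end twist

/-! ## Transfer to an invariant character -/

section lift

variable {X : Type u} [Group X] [Fintype X] {C : Subgroup X} [C.Normal] [Fintype C]
  (θ : IrrCharacter C) (hinv : ∀ g, conjChar C g (θ : C → ℂ) = θ)

include hinv

theorem card_over_of_cyclic [IsCyclic (X ⧸ C)] :
    Nat.card (OverTh C (θ : C → ℂ)) = C.index := by
  obtain ⟨G, _, _, Z, ε, φ, hZ, hφ, hk, hcard⟩ := exists_triple θ hinv
  haveI := Fintype.ofFinite G
  rw [hcard, card_overLin_of_cyclic hZ ε φ hk, ← hk, Subgroup.index_ker,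
    MonoidHom.range_eq_top.2 hφ, Subgroup.card_top]
  rfl

theorem three_le_over_quaternion (e : X ⧸ C ≃* QuaternionGroup 2) :
    3 ≤ Nat.card (OverTh C (θ : C → ℂ)) := by
  obtain ⟨G, _, _, Z, ε, φ, hZ, hφ, hk, hcard⟩ := exists_triple θ hinv
  haveI := Fintype.ofFinite G
  rw [hcard]
  refine three_le_overLin_quaternion hZ ε (e.toMonoidHom.comp φ) (e.surjective.comp hφ) ?_
  rw [← hk]
  ext x
  simp

theorem three_le_over_cyclic_sylow {r : ℕ} [Fact r.Prime] (hr : r ≠ 2)
    (hdvd : r ∣ Nat.card (X ⧸ C)) (hcyc : ∀ R : Sylow r (X ⧸ C), IsCyclic R) :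
    3 ≤ Nat.card (OverTh C (θ : C → ℂ)) := by
  obtain ⟨G, _, _, Z, ε, φ, hZ, hφ, hk, hcard⟩ := exists_triple θ hinv
  haveI := Fintype.ofFinite G
  rw [hcard]
  exact three_le_overLin_cyclic_sylow hZ ε φ hφ hk hr hdvd hcyc

end lift

end Cfsg.Agent.BlockThree
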